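import Groth.Agent.CBSurf.Covers
import Groth.Agent.StabK3.ExtDefect
import Groth.Agent.CGrpExt.Basic
import Groth.Agent.W7Slope.Basic
import Groth.Agent.RegDual.Scheme

/-!
# Bundles extending a twisted ideal and the Cayley–Bacharach property
-/

set_option autoImplicit false
set_option backward.isDefEq.respectTransparency false
set_option backward.isDefEq.respectTransparency.types false
set_option linter.style.haveILetI false
set_option linter.unusedSectionVars false
set_option maxHeartbeats 1000000

universe u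

open CategoryTheory CategoryTheory.Limits AlgebraicGeometry TopologicalSpace Opposite Abelian
open Groth.Agent.CurveRR (idealIncl h)
open Groth.Agent.CohFinite (tmap)
open TMul (IsGen tm)

noncomputable section

namespace Groth.Agent.CBSurf

/-- finitely many proper subspaces over an infinite field do not cover -/
theorem exists_avoid {k M : Type*} [Field k] [Infinite k] [AddCommGroup M] [Module k M] [FiniteDimensional k M]
    {ι : Type*} [Finite ι] (W : ι → Submodule k M) (hW : ∀ i, W i ≠ ⊤) : ∃ x, ∀ i, x ∉ W i := by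
  classical
  haveI := Fintype.ofFinite ι
  choose f hf using fun i => Submodule.exists_dual_map_eq_bot_of_lt_top (lt_top_iff_ne_top.2 (hW i)) inferInstance
  obtain ⟨τ, -, hτ⟩ := exists_dual_avoid (⊥ : Submodule k (Module.Dual k M)) (Finset.univ : Finset ι) f
    fun i _ hi => (hf i).1 ((Submodule.mem_bot k).1 hi)
  refine ⟨(Module.evalEquiv k M).symm τ, fun i hi => hτ i (Finset.mem_univ i) ?_⟩
  rw [← Module.apply_evalEquiv_symm_apply k M (f i) τ]
  exact (Submodule.mem_bot k).1 ((hf i).2 ▸ Submodule.mem_map_of_mem hi)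

variable {X : Scheme.{u}} {IP : X.IdealSheafData} {M : X.Modules}

/-- global sections grow along monomorphisms -/
theorem h0_le_of_mono {k : Type u} [Field k] [X.Over (Spec (CommRingCat.of k))]
    [IsProper (X ↘ Spec (CommRingCat.of k))] {A B : X.Modules} (i : A ⟶ B) [Mono i] (hB : Coh.IsCoh B) :
    h k A 0 ≤ h k B 0 := by
  haveI := CurveRR.isNoetherian_of_proper k X
  haveI : Module.Finite k (Coh.HH X B 0) := CohFinite.finite_proper k X _ hB 0
  have hT : (ShortComplex.mk i (cokernel.π i) (cokernel.condition i)).ShortExact :=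
    { exact := ShortComplex.exact_cokernel i }
  exact LinearMap.finrank_le_finrank_of_injective (CurveRR.injective_f (k := k) hT)

theorem h0_eq_zero_of_isZero {k : Type u} [Field k] [X.Over (Spec (CommRingCat.of k))] {A : X.Modules}
    (hA : IsZero A) (q : ℕ) : Module.finrank k (Coh.HH X A q) = 0 := by
  haveI : Subsingleton (Coh.HH X A q) := subsingleton_of_forall_eq 0 fun x => by
    rw [← CohFinite.hhMap_id k A q x, hA.eq_of_src (𝟙 A) 0]
    exact LinearMap.congr_fun ((SerrePn.hhHom k A A q).map_zero) x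
  exact Module.finrank_zero_of_subsingleton

/-- the cokernel of the twisted ideal lives on the subscheme -/
theorem support_cokernel_incl (hM : PicF.IsInvertible M) :
    CohB1.support (cokernel (tmap (ClSub.idealModι IP) M)) ⊆ (IP.support : Set X) := by
  intro x hx
  by_contra hxS
  let e := IsColimit.coconePointUniqueUpToIso (cokernelIsCokernel (tmap (ClSub.idealModι IP) M))
    (CohFinite.shortExact_tmap hM (CurveRR.ideal_shortExact IP)).gIsCokernel
  refine ((Groth.Agent.QC.notMem_support_iff x).mpr fun U hxU s => ?_) ((W7Exist.support_of_mono e.hom) hx)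
  refine ⟨U ⊓ ⟨(IP.support : Set X)ᶜ, IP.support.isClosed.isOpen_compl⟩, inf_le_left, ⟨hxU, hxS⟩, ?_⟩
  exact CurveRR.suppIn_tensor (CurveRR.suppIn_of_subset (CurveRR.support_quotMod IP)) M _ _ fun y hy => hy.2

theorem torsionFree_twist (hM : PicF.IsInvertible M) (J : X.IdealSheafData) :
    TorSh.IsTorsionFree (CohB1.tensorMod (ClSub.idealMod J) M) := by
  haveI := CurveRR.mono_idealIncl hM J
  refine StabK3.isTorsionFree_sub (idealIncl J M) fun x => ?_
  haveI := LocFree.free_stalk_of_isFinLocFree (ResDesc.isFinLocFree_of_isInvertible hM) x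
  infer_instance

variable {k : Type u} [Field k] [IsAlgClosed k] [X.Over (Spec (CommRingCat.of k))]
  [IsProper (X ↘ Spec (CommRingCat.of k))] [IsIntegral X] [Smooth (X ↘ Spec (CommRingCat.of k))]
  (hdim : topologicalKrullDim X = 2) {ω : X.Modules}
  (hω : ExtPow.IsExtPow 2 (Omega.sheaf (X ↘ Spec (CommRingCat.of k))) ω)
  {V : X.affineOpens} {e : Γ(M, V.1)} (hfin : (IP.support : Set X).Finite)
  (hS : (IP.support : Set X) ⊆ (V.1 : Set X)) (hM : PicF.IsInvertible M) (he : IsGen e) [HasExt.{u} X.Modules]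

include hdim hω hfin hS hM he in
/-- Cayley–Bacharach at a cover means that the extensions from the cover do not exhaust all. -/
theorem cb_iff_finrank {K : X.IdealSheafData} (hle : IP ≤ K) {m : Ideal Γ(X, V.1)} (hm : m.IsMaximal)
    (hIm : IP.ideal V ≤ m) {z : Γ(X, V.1)} (hz : ∀ a ∈ m, a * z ∈ IP.ideal V) (hzI : z ∉ IP.ideal V)
    (hKV : K.ideal V = IP.ideal V ⊔ Ideal.span {z}) :
    (∀ σ : Coh.structureModule X ⟶ M, PicF2.zeroScheme M σ ≤ K → PicF2.zeroScheme M σ ≤ IP) ↔
      Module.finrank k (Ext (CohB1.tensorMod (ClSub.idealMod K) M) ω 1) <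
        Module.finrank k (Ext (CohB1.tensorMod (ClSub.idealMod IP) M) ω 1) := by
  haveI := CurveRR.isNoetherian_of_proper k X
  have hMc : Coh.IsCoh M := CurveRR.isCoh_of_rank (CurveRR.isFinLocFreeOfRank_one hM)
  have hA : ∀ J : X.IdealSheafData, Coh.IsCoh (CohB1.tensorMod (ClSub.idealMod J) M) := fun J =>
    CurveRR.isCoh_tensor' (CurveRR.isCoh_idealMod J).1 hMc
  rw [(ext_canonical k hdim hω (hA K) 1 (by omega)).2, (ext_canonical k hdim hω (hA IP) 1 (by omega)).2,
    cb_iff (k := k) hfin hS hM he hle]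
  have hd := h1_drop (k := k) hfin hS hM he hle hm hIm hz hzI hKV
  have hge : h k (CohB1.tensorMod (ClSub.idealMod IP) M) 0 ≤ h k (CohB1.tensorMod (ClSub.idealMod K) M) 0 :=
    haveI := mono_twistInc hle hM
    h0_le_of_mono (twistInc hle M) (hA K)
  show _ ↔ h k (CohB1.tensorMod (ClSub.idealMod K) M) (2 - 1) < h k (CohB1.tensorMod (ClSub.idealMod IP) M) (2 - 1)
  rw [show 2 - 1 = 1 from rfl]
  omega

include hdim hω hfin hS hM he in
/-- A bundle extension forces the Cayley–Bacharach property. -/
theorem cb_of_bundle {E : X.Modules} {f : ω ⟶ E} {g : E ⟶ CohB1.tensorMod (ClSub.idealMod IP) M} {w : f ≫ g = 0}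
    (hE : (ShortComplex.mk f g w).ShortExact) (hEf : FlatMod.IsFinLocFree E) {K : X.IdealSheafData} (hK : IP ⋖ K) :
    ∀ σ : Coh.structureModule X ⟶ M, PicF2.zeroScheme M σ ≤ K → PicF2.zeroScheme M σ ≤ IP := by
  haveI := CurveRR.isNoetherian_of_proper k X
  haveI := SerrePn.enoughInjectives (X := X)
  obtain ⟨m, z, hm, hIm, hz, hzI, hKV⟩ := exists_socle_of_covBy (k := k) hfin hS hK
  haveI := hm.isPrime
  refine (cb_iff_finrank hdim hω hfin hS hM he hK.1.le hm hIm hz hzI hKV).2 ?_
  obtain ⟨hG, hsupp, hG1, -⟩ := quot_facts (k := k) hfin hS hK.1.le hM he hm hIm hz hzI hKV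
  haveI := mono_twistInc hK.1.le hM
  let i := twistInc hK.1.le M
  have hT : (ShortComplex.mk i (cokernel.π i) (cokernel.condition i)).ShortExact :=
    { exact := ShortComplex.exact_cokernel i }
  have hMc : Coh.IsCoh M := CurveRR.isCoh_of_rank (CurveRR.isFinLocFreeOfRank_one hM)
  have hA : ∀ J : X.IdealSheafData, Coh.IsCoh (CohB1.tensorMod (ClSub.idealMod J) M) := fun J =>
    CurveRR.isCoh_tensor' (CurveRR.isCoh_idealMod J).1 hMc
  have hωi : PicF.IsInvertible ω := SurfAdj.isInvertible_W k hdim hω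
  have hx : IsClosed ({ptOf V m} : Set X) :=
    isClosed_singleton_support (k := k) hfin _ (ptOf_mem_support m hIm)
  have hd0 : topologicalKrullDim ({ptOf V m} : Set X) ≤ 0 := topologicalKrullDim_zero_of_discreteTopology _
  haveI := subsingleton_ext_supported k hdim hω hG hx hd0 hsupp hωi 1 (by omega)
  let r : Ext (CohB1.tensorMod (ClSub.idealMod K) M) ω 1 →ₗ[k] Ext (CohB1.tensorMod (ClSub.idealMod IP) M) ω 1 :=
    (Ext.mk₀ i).precompOfLinear k ω (zero_add 1)
  have hinj : Function.Injective r := (injective_iff_map_eq_zero r).2 fun y hy => by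
    obtain ⟨t, rfl⟩ := Ext.contravariant_sequence_exact₂ hT ω y hy
    rw [Subsingleton.elim t 0, Ext.comp_zero]
  haveI := (ext_canonical k hdim hω (hA IP) 1 (by omega)).1
  by_contra hlt
  have hsurj : LinearMap.range r = ⊤ := Submodule.eq_top_of_finrank_eq <| le_antisymm (Submodule.finrank_le _)
    ((not_lt.1 hlt).trans_eq (LinearMap.finrank_range_of_inj hinj).symm)
  obtain ⟨y, hy⟩ := LinearMap.range_eq_top.1 hsurj hE.extClass
  obtain ⟨E', a, b, z', hV', rfl⟩ := StabK3.exists_extension y
  obtain ⟨wV, hV⟩ := StabK3.shortExact_pullback hV' i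
  let φ₀ : ShortComplex.mk _ _ wV ⟶ ShortComplex.mk a b z' :=
    { τ₁ := 𝟙 ω, τ₂ := pullback.fst b i, τ₃ := i
      comm₁₂ := by simp
      comm₂₃ := pullback.condition }
  have hnat := ShortComplex.ShortExact.extClass_naturality hV hV' φ₀
  obtain ⟨φ, hφ, -, -⟩ := CGrpExt.exists_iso_of_extClass_eq f g _ _ hE hV
    (hy.symm.trans (hnat.symm.trans (Ext.comp_mk₀_id _)))
  haveI := hφ
  let u := φ ≫ pullback.fst b i
  haveI : Mono (pullback.fst b i) := inferInstance
  have hsuppu : CohB1.support (cokernel u) ⊆ {ptOf V m} := by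
    let e₀ : cokernel (pullback.fst b i) ⟶ cokernel i :=
      cokernel.map (pullback.fst b i) i (pullback.snd b i) b pullback.condition
    haveI : Mono e₀ := Abelian.mono_cokernel_map_of_isPullback (IsPullback.of_hasPullback b i)
    exact ((W7Exist.support_of_mono (cokernelEpiComp φ (pullback.fst b i)).hom).trans
      (W7Exist.support_of_mono e₀)).trans hsupp
  have hωtf : TorSh.IsTorsionFree ω := fun x => by
    haveI := LocFree.free_stalk_of_isFinLocFree (ResDesc.isFinLocFree_of_isInvertible hωi) x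
    infer_instance
  have hωc : Coh.IsCoh ω := CurveRR.isCoh_of_rank (CurveRR.isFinLocFreeOfRank_one hωi)
  haveI : IsIso u := StabK3.isIso_of_off_finite k hdim u hEf (StabLib.Sh.isCoh_mid hV' hωc (hA K))
    (StabK3.isTorsionFree_mid hV' hωtf (torsionFree_twist hM K)) ((Intersect.dim_mono hsuppu).trans hd0)
  haveI : Epi (pullback.fst b i) := epi_of_epi φ _
  haveI : Epi b := hV'.epi_g
  have hz0 : b ≫ cokernel.π i = 0 := (cancel_epi (pullback.fst b i)).1 (by
    rw [reassoc_of% (pullback.condition : pullback.fst b i ≫ b = pullback.snd b i ≫ i), cokernel.condition, comp_zero,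
      comp_zero])
  have hz1 : IsZero (cokernel i) := IsZero.of_epi_eq_zero (cokernel.π i)
    ((cancel_epi b).1 (hz0.trans comp_zero.symm))
  have hG1' : Module.finrank k (Coh.HH X (cokernel i) 0) = 1 := hG1
  rw [h0_eq_zero_of_isZero hz1] at hG1'
  exact zero_ne_one hG1'

include hdim hω hfin hS hM he in
/-- The Cayley–Bacharach property gives a bundle extension. -/
theorem bundle_of_cb
    (hlci : ∀ x : X, ∃ W : X.affineOpens, x ∈ (W : X.Opens) ∧ ∃ a b : Γ(X, W), IP.ideal W = Ideal.span {a, b})
    (hCB : ∀ K : X.IdealSheafData, IP ⋖ K →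
      ∀ σ : Coh.structureModule X ⟶ M, PicF2.zeroScheme M σ ≤ K → PicF2.zeroScheme M σ ≤ IP) :
    ∃ (E : X.Modules) (f : ω ⟶ E) (g : E ⟶ CohB1.tensorMod (ClSub.idealMod IP) M) (w : f ≫ g = 0),
      FlatMod.IsFinLocFreeOfRank 2 E ∧ (ShortComplex.mk f g w).ShortExact := by
  classical
  haveI := CurveRR.isNoetherian_of_proper k X
  haveI := SerrePn.enoughInjectives (X := X)
  haveI : X.IsSeparated := ⟨by
    rw [terminal.hom_ext (terminal.from X) ((X ↘ Spec (CommRingCat.of k)) ≫ terminal.from _)]; infer_instance⟩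
  haveI : IsNoetherianRing Γ(X, V.1) := IsLocallyNoetherian.component_noetherian V
  have hcl := isClosed_singleton_support (k := k) hfin
  obtain ⟨hpf, hmax⟩ := primes_spec (IP := IP) (V := V) hfin hcl
  have hMc : Coh.IsCoh M := CurveRR.isCoh_of_rank (CurveRR.isFinLocFreeOfRank_one hM)
  have hA : ∀ J : X.IdealSheafData, Coh.IsCoh (CohB1.tensorMod (ClSub.idealMod J) M) := fun J =>
    CurveRR.isCoh_tensor' (CurveRR.isCoh_idealMod J).1 hMc
  let P := {p : Ideal Γ(X, V.1) | p.IsPrime ∧ IP.ideal V ≤ p}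
  haveI : Finite P := hpf.to_subtype
  choose zz hzz hzI using fun p : P =>
    haveI := p.2.1
    exists_socle_of_prime (IP.ideal V) hmax p.1 p.2.2
  choose K hK hKV using fun p : P =>
    exists_ideal_extend (IP := IP) (V := V) (IP.ideal V ⊔ Ideal.span {zz p}) le_sup_left
  have hcov : ∀ p, IP ⋖ K p := fun p =>
    covBy_of_covBy hS (hK p) ((hKV p).symm ▸ covBy_sup_span _ (hmax _ p.2.1 p.2.2) (hzz p) (hzI p))
  let W : P → Submodule k (Ext (CohB1.tensorMod (ClSub.idealMod IP) M) ω 1) := fun p =>
    LinearMap.range ((Ext.mk₀ (twistInc (hK p) M)).precompOfLinear k ω (zero_add 1))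
  haveI := (ext_canonical k hdim hω (hA IP) 1 (by omega)).1
  have hW : ∀ p, W p ≠ ⊤ := fun p htop => by
    haveI := (ext_canonical k hdim hω (hA (K p)) 1 (by omega)).1
    have h1 := (cb_iff_finrank hdim hω hfin hS hM he (hK p) (hmax _ p.2.1 p.2.2) p.2.2 (hzz p) (hzI p) (hKV p)).1
      (hCB _ (hcov p))
    have h2 := LinearMap.finrank_range_le ((Ext.mk₀ (twistInc (hK p) M)).precompOfLinear k ω (zero_add 1))
    change Module.finrank k (W p) ≤ _ at h2
    rw [htop, finrank_top] at h2
    omega
  haveI : Infinite k := inferInstance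
  obtain ⟨ξ, hξ⟩ := exists_avoid W hW
  obtain ⟨E, f, g, w, hE, rfl⟩ := StabK3.exists_extension ξ
  have hωi : PicF.IsInvertible ω := SurfAdj.isInvertible_W k hdim hω
  have hωc : Coh.IsCoh ω := CurveRR.isCoh_of_rank (CurveRR.isFinLocFreeOfRank_one hωi)
  have hEc : Coh.IsCoh E := StabLib.Sh.isCoh_mid hE hωc (hA IP)
  let ι₀ := tmap (ClSub.idealModι IP) M
  haveI : Mono ι₀ := (CohFinite.shortExact_tmap hM (CurveRR.ideal_shortExact IP)).mono_f
  have hOM : PicF.IsInvertible (CohB1.tensorMod (Coh.structureModule X) M) :=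
    TMul.isInvertible_tensorMod (PicLoc.isInvertible_structureModule X) hM
  have hfree : ∀ x : X, Module.Free (X.presheaf.stalk x) (E.presheaf.stalk x) := fun x => by
    by_cases hxS : x ∈ (IP.support : Set X)
    · obtain ⟨q, hq⟩ : x ∈ Set.range V.2.fromSpec := by rw [V.2.range_fromSpec]; exact hS hxS
      have hIq : IP.ideal V ≤ q.asIdeal := by
        have h1 : x ∈ (IP.support : Set X) ∩ (V.1 : Set X) := ⟨hxS, hS hxS⟩
        rw [IP.coe_support_inter V, ← V.2.fromSpec_image_zeroLocus] at h1
        obtain ⟨q', hq', hqx⟩ := h1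
        rw [← V.2.fromSpec.isOpenEmbedding.injective (hqx.trans hq.symm)]
        exact hq'
      let p : P := ⟨q.asIdeal, q.isPrime, hIq⟩
      have hm := hmax _ p.2.1 p.2.2
      haveI := hm.isPrime
      have hxp : ptOf V p.1 = x := hq
      obtain ⟨hG, hsupp, hG1, r, -, hkill, hdet⟩ :=
        quot_facts (k := k) hfin hS (hK p) hM he hm p.2.2 (hzz p) (hzI p) (hKV p)
      haveI := mono_twistInc (hK p) hM
      let i := twistInc (hK p) M
      let G := cokernel i
      have hT : (ShortComplex.mk i (cokernel.π i) (cokernel.condition i)).ShortExact :=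
        { exact := ShortComplex.exact_cokernel i }
      rw [hxp] at hsupp
      have hd0 : topologicalKrullDim ({x} : Set X) ≤ 0 := topologicalKrullDim_zero_of_discreteTopology _
      have hv : ∀ {N : X.Modules}, PicF.IsInvertible N → ∀ j < 2, Subsingleton (Ext G N j) := fun hN j hj =>
        subsingleton_ext_supported k hdim hω hG (hcl x hxS) hd0 hsupp hN j hj
      refine free_stalk_of_ext (k := k) hEc hG (hcl x hxS) (fun hz => ?_) hsupp
        (regular_dim_two (k := k) hdim (hcl x hxS)).1 (regular_dim_two (k := k) hdim (hcl x hxS)).2 fun j hj => ?_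
      · have hG1' : Module.finrank k (Coh.HH X G 0) = 1 := hG1
        rw [h0_eq_zero_of_isZero hz] at hG1'
        exact zero_ne_one hG1'
      · refine subsingleton_of_forall_eq 0 fun η => ?_
        haveI := hv hωi j hj
        by_contra hη
        have hη' : η.comp (Ext.mk₀ g) (add_zero j) ≠ 0 := fun h0 => hη (by
          obtain ⟨t, rfl⟩ := Ext.covariant_sequence_exact₂ G hE η h0
          rw [Subsingleton.elim t 0, Ext.zero_comp])
        interval_cases j
        · refine hη' ?_
          obtain ⟨φ, hφ⟩ := (Ext.mk₀_bijective _ _).2 (η.comp (Ext.mk₀ g) (add_zero 0))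
          haveI := hv hOM 0 (by omega)
          have h0 : φ ≫ ι₀ = 0 := (Ext.mk₀_bijective _ _).1 (Subsingleton.elim _ _)
          rw [← hφ, show φ = 0 from (cancel_mono ι₀).1 (h0.trans zero_comp.symm), Ext.mk₀_zero]
        · obtain ⟨c, hc⟩ := ext_line (k := k) hdim hω hfin hS hM he hm p.2.2
            (socAt_spec hcl hfin (fun y hy => regular_dim_two (k := k) hdim (hcl y hy)) hlci p.1 hm p.2.2)
            hG (hsupp.trans (Set.singleton_subset_iff.2 hxS)) hkill hdet hη' hT.extClass
          have h0 : hT.extClass.comp hE.extClass (rfl : 1 + 1 = 2) = 0 := by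
            rw [hc, Ext.smul_comp, Ext.comp_assoc η (Ext.mk₀ g) hE.extClass (add_zero 1) (zero_add 1) (by omega),
              hE.comp_extClass, Ext.comp_zero, smul_zero]
          obtain ⟨y, hy⟩ := Ext.contravariant_sequence_exact₁ hT ω hE.extClass (rfl : 1 + 1 = 2) h0
          exact hξ p ⟨y, hy⟩
    · haveI := LocFree.free_stalk_of_isFinLocFree (ResDesc.isFinLocFree_of_isInvertible hωi) x
      haveI := LocFree.free_stalk_of_isFinLocFree (ResDesc.isFinLocFree_of_isInvertible hOM) x
      have hx' : x ∉ CohB1.support (cokernel ι₀) := fun hx => hxS (support_cokernel_incl hM hx)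
      let e₀ := LinearEquiv.ofBijective (RefHull.stalkMapₗ ι₀ x) (StabLib.bijective_stalk_of_notMem ι₀ hx')
      haveI : Module.Free (X.presheaf.stalk x) ((CohB1.tensorMod (ClSub.idealMod IP) M).presheaf.stalk x) :=
        Module.Free.of_equiv e₀.symm
      have hx2 := hE.map_of_exact (DerSch.stalkFunctor X x)
      obtain ⟨s, hs⟩ := Module.projective_lifting_property (RefHull.stalkMapₗ g x) LinearMap.id
        ((ModuleCat.epi_iff_surjective _).1 hx2.epi_g)
      obtain ⟨hsplit⟩ : Nonempty ((ω.presheaf.stalk x × (CohB1.tensorMod (ClSub.idealMod IP) M).presheaf.stalk x)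
          ≃ₗ[X.presheaf.stalk x] E.presheaf.stalk x) := by
        let L : (ω.presheaf.stalk x × (CohB1.tensorMod (ClSub.idealMod IP) M).presheaf.stalk x) →ₗ[X.presheaf.stalk x]
            E.presheaf.stalk x := (RefHull.stalkMapₗ f x).coprod s
        have hgf : ∀ a, RefHull.stalkMapₗ g x (RefHull.stalkMapₗ f x a) = 0 := fun a =>
          (ShortComplex.ShortExact.moduleCat_exact_iff_function_exact _).1 hx2.exact _ |>.2 ⟨a, rfl⟩
        have hgs : ∀ b, RefHull.stalkMapₗ g x (s b) = b := fun b => LinearMap.congr_fun hs b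
        refine ⟨LinearEquiv.ofBijective L ⟨(injective_iff_map_eq_zero L).2 fun v hv => ?_, fun y => ?_⟩⟩
        · obtain ⟨a, b⟩ := v
          change RefHull.stalkMapₗ f x a + s b = 0 at hv
          have hb : b = 0 := by
            have := congrArg (RefHull.stalkMapₗ g x) hv
            rwa [map_add, hgf, hgs, zero_add, map_zero] at this
          subst hb
          rw [map_zero, add_zero] at hv
          refine Prod.ext ?_ rfl
          exact (ModuleCat.mono_iff_injective _).1 hx2.mono_f (hv.trans (map_zero _).symm)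
        · obtain ⟨a, ha⟩ := (ShortComplex.moduleCat_exact_iff _).1 hx2.exact (y - s (RefHull.stalkMapₗ g x y)) (by
            show RefHull.stalkMapₗ g x _ = 0
            rw [map_sub, hgs, sub_self])
          refine ⟨(a, RefHull.stalkMapₗ g x y), ?_⟩
          show RefHull.stalkMapₗ f x a + s (RefHull.stalkMapₗ g x y) = y
          rw [show RefHull.stalkMapₗ f x a = y - s (RefHull.stalkMapₗ g x y) from ha, sub_add_cancel]
      exact Module.Free.of_equiv hsplit
  have hEf : FlatMod.IsFinLocFree E := RegDual.isFinLocFree_of_free_stalk hEc hfree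
  refine ⟨E, f, g, w, ?_, hE⟩
  have h2 := W7Slope.grk_add hE hEc
  have hη : genericPoint X ∉ CohB1.support (cokernel ι₀) := fun hη => by
    have hc := hcl _ (support_cokernel_incl hM hη)
    have h3 := StabK3.two_le_dim_of_closed k hdim hc
    rw [ringKrullDim_stalk_eq_coheight, RefDiv.coheight_genericPoint] at h3
    norm_num at h3
  have h4 : W7Slope.grk (CohB1.tensorMod (ClSub.idealMod IP) M) = 1 := by
    rw [← W7Slope.grk_of_rank (CurveRR.isFinLocFreeOfRank_one hOM)]
    exact (LinearEquiv.ofBijective (RefHull.stalkMapₗ ι₀ _) (StabLib.bijective_stalk_of_notMem ι₀ hη)).finrank_eq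
  change W7Slope.grk E = W7Slope.grk ω + W7Slope.grk (CohB1.tensorMod (ClSub.idealMod IP) M) at h2
  rw [h4, W7Slope.grk_of_rank (CurveRR.isFinLocFreeOfRank_one hωi)] at h2
  have h5 := W7Slope.rank_of_isFinLocFree hEc.1 hEf
  rwa [h2] at h5

end Groth.Agent.CBSurf
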