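import Groth.Agent.CBSurf.SocLine
import Mathlib.LinearAlgebra.Dual.Lemmas
import Mathlib.RingTheory.Localization.AtPrime.Basic

/-!
# Ideals covering a colength-finite ideal, and the duality pairing they define
-/

set_option autoImplicit false
set_option linter.style.haveILetI false

universe u v

open IsLocalRing

namespace Groth.Agent.CBSurf

/-- At a maximal ideal above `I` the socle of `A/I` has at most one line. -/
def SocAt {A : Type u} [CommRing A] (I m : Ideal A) : Prop :=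
  ∀ z₁ z₂ : A, (∀ a ∈ m, a * z₁ ∈ I) → (∀ a ∈ m, a * z₂ ∈ I) → z₁ ∉ I → ∃ c, z₂ - c * z₁ ∈ I

theorem socAt_of_local {A : Type u} [CommRing A] (I m : Ideal A) [m.IsMaximal] (L : Type v) [CommRing L]
    [Algebra A L] [IsLocalization.AtPrime L m] [IsRegularLocalRing L] (hdim : ringKrullDim L = (2 : ℕ))
    {a b : L} (hab : I.map (algebraMap A L) = Ideal.span {a, b}) (hIm : I ≤ m)
    (hprime : ∀ p : Ideal A, p.IsPrime → I ≤ p → p.IsMaximal) : SocAt I m := by
  have hmax : m.map (algebraMap A L) = maximalIdeal L :=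
    IsLocalization.AtPrime.map_eq_maximalIdeal m L
  have hle : Ideal.span {a, b} ≤ maximalIdeal L := by rw [← hab, ← hmax]; exact Ideal.map_mono hIm
  have hP : ∀ p : Ideal L, p.IsPrime → Ideal.span {a, b} ≤ p → p = maximalIdeal L := fun p hp hIp => by
    obtain ⟨hp₁, hdisj⟩ := (IsLocalization.isPrime_iff_isPrime_disjoint m.primeCompl L p).1 hp
    have hI' : I ≤ p.comap (algebraMap A L) := Ideal.map_le_iff_le_comap.1 (hab.le.trans hIp)
    have hsub : p.comap (algebraMap A L) ≤ m := fun w hw =>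
      not_not.1 fun hwm => Set.disjoint_left.1 hdisj hwm hw
    have he : p.comap (algebraMap A L) = m :=
      (hprime _ hp₁ hI').eq_of_le (Ideal.IsPrime.ne_top inferInstance) hsub
    rw [← hmax, ← he, IsLocalization.map_comap m.primeCompl L p]
  obtain ⟨Δ, hΔm, hΔ⟩ := socle_line hdim (hle (Ideal.subset_span (by simp))) (hle (Ideal.subset_span (by simp))) hP
  have hback : ∀ z : A, (∀ w ∈ m, w * z ∈ I) → algebraMap A L z ∈ Ideal.span {a, b} → z ∈ I := by
    intro z hz hzI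
    rw [← hab, IsLocalization.algebraMap_mem_map_algebraMap_iff m.primeCompl L] at hzI
    obtain ⟨s, hs, hsz⟩ := hzI
    obtain ⟨u, i, hi, hui⟩ := Ideal.IsMaximal.exists_inv (I := m) inferInstance hs
    have : z = i * z + u * (s * z) := by linear_combination -(z * hui)
    rw [this]
    exact add_mem (hz i hi) (I.mul_mem_left u hsz)
  have hsoc : ∀ z : A, (∀ w ∈ m, w * z ∈ I) → ∃ t, algebraMap A L z - t * Δ ∈ Ideal.span {a, b} := by
    refine fun z hz => hΔ _ fun w hw => ?_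
    rw [← hab]
    rw [← hmax] at hw
    have : m.map (algebraMap A L) * Ideal.span {algebraMap A L z} ≤ I.map (algebraMap A L) := by
      rw [← Set.image_singleton, ← Ideal.map_span, ← Ideal.map_mul]
      refine Ideal.map_mono (Ideal.mul_le.2 fun r hr s hs => ?_)
      obtain ⟨d, rfl⟩ := Ideal.mem_span_singleton'.1 hs
      rw [show r * (d * z) = d * (r * z) by ring]
      exact I.mul_mem_left d (hz r hr)
    rw [mul_comm]
    exact this (Ideal.mul_mem_mul hw (Ideal.mem_span_singleton_self _))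
  intro z₁ z₂ h₁ h₂ hz₁
  obtain ⟨t₁, ht₁⟩ := hsoc z₁ h₁
  obtain ⟨t₂, ht₂⟩ := hsoc z₂ h₂
  by_cases ht : IsUnit t₁
  · obtain ⟨u, rfl⟩ := ht
    obtain ⟨c₀, s₀, hc⟩ : ∃ c₀ s₀, t₂ * ↑u⁻¹ = IsLocalization.mk' L c₀ (s₀ : m.primeCompl) := by
      obtain ⟨⟨c₀, s₀⟩, h⟩ := IsLocalization.mk'_surjective m.primeCompl (t₂ * ↑u⁻¹)
      exact ⟨c₀, s₀, h.symm⟩
    have hd : ∀ w ∈ m, w * ((s₀ : A) * z₂ - c₀ * z₁) ∈ I := fun w hw => by
      rw [show w * ((s₀ : A) * z₂ - c₀ * z₁) = s₀ * (w * z₂) - c₀ * (w * z₁) by ring]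
      exact sub_mem (I.mul_mem_left _ (h₂ w hw)) (I.mul_mem_left _ (h₁ w hw))
    have hmem : (s₀ : A) * z₂ - c₀ * z₁ ∈ I := by
      refine hback _ hd ?_
      have hc' : algebraMap A L c₀ = t₂ * ↑u⁻¹ * algebraMap A L (s₀ : A) := by
        rw [hc, IsLocalization.mk'_spec]
      rw [map_sub, map_mul, map_mul, hc']
      have : algebraMap A L (s₀ : A) * algebraMap A L z₂ - t₂ * ↑u⁻¹ * algebraMap A L (s₀ : A) * algebraMap A L z₁ =
          algebraMap A L (s₀ : A) * (algebraMap A L z₂ - t₂ * Δ) -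
            t₂ * ↑u⁻¹ * algebraMap A L (s₀ : A) * (algebraMap A L z₁ - ↑u * Δ) := by
        linear_combination (-(algebraMap A L (s₀ : A) * t₂ * Δ)) * u.mul_inv
      rw [this]
      exact sub_mem (Ideal.mul_mem_left _ _ ht₂) (Ideal.mul_mem_left _ _ ht₁)
    obtain ⟨w, i, hi, hwi⟩ := Ideal.IsMaximal.exists_inv (I := m) inferInstance s₀.2
    refine ⟨w * c₀, ?_⟩
    rw [show z₂ - w * c₀ * z₁ = i * z₂ + w * ((s₀ : A) * z₂ - c₀ * z₁) by linear_combination -(z₂ * hwi)]
    exact add_mem (h₂ i hi) (I.mul_mem_left w hmem)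
  · refine absurd (hback z₁ h₁ ?_) hz₁
    rw [← sub_add_cancel (algebraMap A L z₁) (t₁ * Δ)]
    exact add_mem ht₁ (hΔm t₁ ht)

end Groth.Agent.CBSurf
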