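import Groth.Agent.CBSurf.Pairing
import Groth.Agent.CurveRR.Zero
import Groth.Agent.SerrePn.Equidim
import Groth.Agent.GeomProp.SmoothPoint
import Groth.Agent.TMul.AmpleBasis
import Groth.Agent.MeroLib.Special

/-!
# Zero-dimensional subschemes seen on an affine open containing their support
-/

set_option autoImplicit false
set_option backward.isDefEq.respectTransparency false
set_option backward.isDefEq.respectTransparency.types false
set_option linter.style.haveILetI false
set_option linter.unusedSectionVars false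

universe u

open CategoryTheory CategoryTheory.Limits AlgebraicGeometry TopologicalSpace Opposite

noncomputable section

namespace Groth.Agent.CBSurf

variable {X : Scheme.{u}} {IP : X.IdealSheafData} {V : X.affineOpens}

/-- Ideal sheaves above one supported in `V` are compared on `V`. -/
theorem le_of_ideal_le (hS : (IP.support : Set X) ⊆ (V.1 : Set X)) {K K' : X.IdealSheafData} (hK' : IP ≤ K')
    (h : K.ideal V ≤ K'.ideal V) : K ≤ K' := by
  have hz : ∀ z : X, z ∈ V.1 ∨ ∃ W : X.affineOpens, z ∈ W.1 ∧ IP.ideal W = ⊤ := fun z => by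
    by_cases hzV : z ∈ V.1
    · exact Or.inl hzV
    · obtain ⟨W, hW, hzW, hWS⟩ := exists_isAffineOpen_mem_and_subset
        (U := (⟨(IP.support : Set X)ᶜ, IP.support.isClosed.isOpen_compl⟩ : X.Opens)) (x := z)
        (fun hzS => hzV (hS hzS))
      refine Or.inr ⟨⟨W, hW⟩, hzW, ?_⟩
      by_contra hne
      obtain ⟨m, hm, hle⟩ := Ideal.exists_le_maximal _ hne
      let q : PrimeSpectrum Γ(X, W) := ⟨m, hm.isPrime⟩
      have hmem : hW.fromSpec q ∈ (IP.support : Set X) ∩ (W : Set X) := by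
        rw [show (W : Set X) = ((⟨W, hW⟩ : X.affineOpens) : Set X) from rfl, IP.coe_support_inter ⟨W, hW⟩,
          ← hW.fromSpec_image_zeroLocus]
        exact ⟨q, hle, rfl⟩
      exact hWS hmem.2 hmem.1
  let U : Option {W : X.affineOpens // IP.ideal W = ⊤} → X.affineOpens := fun o => o.elim V fun W => W.1
  refine Scheme.IdealSheafData.le_of_iSup_eq_top U (eq_top_iff.2 fun z _ => Opens.mem_iSup.2 ?_) fun o => ?_
  · rcases hz z with h1 | ⟨W, hW, hI⟩
    · exact ⟨none, h1⟩
    · exact ⟨some ⟨W, hI⟩, hW⟩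
  · rcases o with _ | W
    · exact h
    · exact le_top.trans (W.2.ge.trans (hK' W.1))

/-- An ideal over `IP(V)` extends to an ideal sheaf. -/
theorem exists_ideal_extend [IsLocallyNoetherian X] [X.IsSeparated] [CompactSpace X] (J : Ideal Γ(X, V.1))
    (hJ : IP.ideal V ≤ J) : ∃ K : X.IdealSheafData, IP ≤ K ∧ K.ideal V = J := by
  haveI : IsAffine (V.1 : Scheme) := V.2
  haveI : IsAffineHom V.1.ι := MorphismProperty.of_postcomp (W := @IsAffineHom) (W' := @IsSeparated) V.1.ι
    (terminal.from X) inferInstance inferInstance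
  let J' : Ideal Γ(X, V.1) := J
  let K₀ := Scheme.IdealSheafData.ofIdealTop (X := (V.1 : Scheme)) (J'.comap V.1.topIso.hom.hom)
  refine ⟨K₀.map V.1.ι, Scheme.IdealSheafData.le_map_iff_comap_le.2 ?_, ?_⟩
  · refine Scheme.IdealSheafData.le_of_isAffine (X := (V.1 : Scheme)) ?_
    rw [Scheme.IdealSheafData.ideal_comap_of_isOpenImmersion]
    intro y hy
    change y ∈ Ideal.map _ (J'.comap V.1.topIso.hom.hom)
    change (V.1.ι.appIso ⊤).inv y ∈ IP.ideal ⟨V.1.ι ''ᵁ ⊤, _⟩ at hy
    have hW : (⟨V.1.ι ''ᵁ ⊤, (isAffineOpen_top (V.1 : Scheme)).image_of_isOpenImmersion V.1.ι⟩ : X.affineOpens) ≤ V :=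
      (V.1.ι_image_top).le
    have h2 := Ideal.mem_comap.1 (IP.ideal_le_comap_ideal (U := V)
      (V := ⟨V.1.ι ''ᵁ ⊤, (isAffineOpen_top (V.1 : Scheme)).image_of_isOpenImmersion V.1.ι⟩) V.1.ι_image_top.ge hy)
    rw [show ((V.1 : Scheme).presheaf.map (homOfLE (le_top : (⊤ : (V.1 : Scheme).Opens) ≤ ⊤)).op) = 𝟙 _ from
      CategoryTheory.Functor.map_id _ _, CommRingCat.hom_id, Ideal.map_id, Ideal.mem_comap]
    refine hJ ?_
    convert h2 using 1
    simp [Scheme.Opens.topIso]
    rfl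
  · rw [Scheme.IdealSheafData.ideal_map_of_isAffineHom]
    show Ideal.comap _ (Ideal.map _ (J'.comap V.1.topIso.hom.hom)) = J
    rw [show (V.1.ι.app V.1).hom = ((V.1 : Scheme).presheaf.map (homOfLE le_top).op).hom.comp V.1.topIso.inv.hom by
      rw [← CommRingCat.hom_comp]
      refine congrArg (fun f => CommRingCat.Hom.hom f) ?_
      simp [Scheme.Opens.topIso, ← Functor.map_comp, Scheme.Opens.ι_app]]
    rw [← Ideal.comap_comap, Ideal.comap_map_of_bijective]
    · rw [Ideal.comap_comap, ← CommRingCat.hom_comp, Iso.inv_hom_id]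
      exact Ideal.comap_id _
    · haveI : IsIso ((V.1 : Scheme).presheaf.map (homOfLE (le_top : V.1.ι ⁻¹ᵁ V.1 ≤ ⊤)).op) := by
        have h : IsIso (homOfLE (le_top : V.1.ι ⁻¹ᵁ V.1 ≤ ⊤)) := by
          exact ⟨⟨homOfLE (by simp), rfl, rfl⟩⟩
        infer_instance
      exact ConcreteCategory.bijective_of_isIso _

/-- A covering ideal on `V` gives a covering ideal sheaf. -/
theorem covBy_of_covBy (hS : (IP.support : Set X) ⊆ (V.1 : Set X)) {K : X.IdealSheafData} (hK : IP ≤ K)
    (h : IP.ideal V ⋖ K.ideal V) : IP ⋖ K := by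
  refine ⟨lt_of_le_of_ne hK fun e => h.lt.ne (by rw [e]), fun L hL hLK => ?_⟩
  by_cases hv : IP.ideal V = L.ideal V
  · exact hL.not_ge (le_of_ideal_le hS le_rfl hv.ge)
  · rcases (lt_or_eq_of_le (show L.ideal V ≤ K.ideal V from hLK.le V)) with h' | h'
    · exact h.2 (lt_of_le_of_ne (hL.le V) hv) h'
    · exact hLK.not_ge (le_of_ideal_le hS hL.le h'.ge)

/-- The primes over `IP(V)` are the finitely many points of the support. -/
theorem primes_spec (hfin : (IP.support : Set X).Finite)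
    (hcl : ∀ z ∈ (IP.support : Set X), IsClosed ({z} : Set X)) :
    {p : Ideal Γ(X, V.1) | p.IsPrime ∧ IP.ideal V ≤ p}.Finite ∧
      ∀ p : Ideal Γ(X, V.1), p.IsPrime → IP.ideal V ≤ p → p.IsMaximal := by
  have hmem : ∀ q : PrimeSpectrum Γ(X, V.1), IP.ideal V ≤ q.asIdeal → V.2.fromSpec q ∈ (IP.support : Set X) :=
    fun q hq => by
      refine (show V.2.fromSpec q ∈ (IP.support : Set X) ∩ (V.1 : Set X) from ?_).1
      rw [IP.coe_support_inter V, ← V.2.fromSpec_image_zeroLocus]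
      exact ⟨q, hq, rfl⟩
  have hinj := V.2.fromSpec.isOpenEmbedding.injective
  refine ⟨?_, fun p hp hIp => ?_⟩
  · refine ((hfin.preimage hinj.injOn).image PrimeSpectrum.asIdeal).subset fun p hp => ?_
    exact ⟨⟨p, hp.1⟩, hmem ⟨p, hp.1⟩ hp.2, rfl⟩
  · let q : PrimeSpectrum Γ(X, V.1) := ⟨p, hp⟩
    refine (PrimeSpectrum.isClosed_singleton_iff_isMaximal q).1 ?_
    have h1 := (hcl _ (hmem q hIp)).preimage V.2.fromSpec.continuous
    exact (show ({q} : Set (PrimeSpectrum Γ(X, V.1))) = V.2.fromSpec ⁻¹' {V.2.fromSpec q} from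
      Set.ext fun x => ⟨fun h => by rw [Set.mem_singleton_iff.1 h]; rfl, fun h => hinj h⟩) ▸ h1

/-- the stalk of the ideal sheaf, seen from an affine open -/
theorem map_germ_eq {U W : X.affineOpens} {x : X} (hU : x ∈ U.1) (hW : x ∈ W.1) :
    (IP.ideal U).map (X.presheaf.germ U.1 x hU).hom = (IP.ideal W).map (X.presheaf.germ W.1 x hW).hom := by
  obtain ⟨f, g, hfg, hx⟩ := exists_basicOpen_le_affine_inter U.2 W.2 x ⟨hU, hW⟩
  have key : ∀ (P Q : X.affineOpens) (hxP : x ∈ P.1) (hxQ : x ∈ Q.1), Q ≤ P →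
      (IP.ideal P).map (X.presheaf.germ P.1 x hxP).hom = (IP.ideal Q).map (X.presheaf.germ Q.1 x hxQ).hom :=
    fun P Q hxP hxQ h => by
      rw [← IP.map_ideal (U := Q) (V := P) h, Ideal.map_map, ← CommRingCat.hom_comp]
      exact congrArg (fun φ => Ideal.map (CommRingCat.Hom.hom φ) (IP.ideal P))
        (X.presheaf.germ_res (homOfLE h) x hxQ).symm
  rw [key U (X.affineBasicOpen f) hU hx (X.basicOpen_le f),
    key W (X.affineBasicOpen f) hW hx (show X.basicOpen f ≤ W.1 from hfg ▸ X.basicOpen_le g)]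

/-- Socles are lines for two-generated ideals at regular points of dimension two. -/
theorem socAt_spec (hcl : ∀ z ∈ (IP.support : Set X), IsClosed ({z} : Set X))
    (hfin : (IP.support : Set X).Finite)
    (hreg : ∀ z ∈ (IP.support : Set X), IsRegularLocalRing (X.presheaf.stalk z) ∧
      ringKrullDim (X.presheaf.stalk z) = (2 : ℕ))
    (hlci : ∀ x : X, ∃ W : X.affineOpens, x ∈ (W : X.Opens) ∧ ∃ a b : Γ(X, W), IP.ideal W = Ideal.span {a, b})
    (m : Ideal Γ(X, V.1)) (hm : m.IsMaximal) (hIm : IP.ideal V ≤ m) : SocAt (IP.ideal V) m := by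
  let q : PrimeSpectrum Γ(X, V.1) := ⟨m, hm.isPrime⟩
  obtain ⟨x, hx⟩ : ∃ x, V.2.fromSpec q = x := ⟨_, rfl⟩
  have hxV : x ∈ V.1 := by
    have h := Set.mem_range_self (f := ⇑V.2.fromSpec) q
    rw [V.2.range_fromSpec, hx] at h
    exact h
  have hxS : x ∈ (IP.support : Set X) := by
    refine (show x ∈ (IP.support : Set X) ∩ (V.1 : Set X) from ?_).1
    rw [IP.coe_support_inter V, ← V.2.fromSpec_image_zeroLocus, ← hx]
    exact ⟨q, hIm, rfl⟩
  have hq : V.2.primeIdealOf ⟨x, hxV⟩ = q :=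
    V.2.fromSpec.isOpenEmbedding.injective ((V.2.fromSpec_primeIdealOf ⟨x, hxV⟩).trans hx.symm)
  letI := (X.presheaf.germ V.1 x hxV).hom.toAlgebra
  haveI : IsLocalization.AtPrime (X.presheaf.stalk x) m := by
    have h := V.2.isLocalization_stalk ⟨x, hxV⟩
    rw [hq] at h
    exact h
  obtain ⟨hr, hd⟩ := hreg x hxS
  obtain ⟨W, hxW, a, b, hab⟩ := hlci x
  refine socAt_of_local (IP.ideal V) m (X.presheaf.stalk x) hd (a := X.presheaf.germ W.1 x hxW a)
    (b := X.presheaf.germ W.1 x hxW b) ?_ hIm (primes_spec hfin hcl).2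
  rw [RingHom.algebraMap_toAlgebra, map_germ_eq hxV hxW, hab, Ideal.map_span, Set.image_pair]

end Groth.Agent.CBSurf
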