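import Groth.Agent.CBSurf.ExtLine
import Mathlib.RingTheory.Ideal.AssociatedPrime.Localization

/-!
# Covering subschemes and sections
-/

set_option autoImplicit false
set_option backward.isDefEq.respectTransparency false
set_option backward.isDefEq.respectTransparency.types false
set_option linter.style.haveILetI false
set_option linter.unusedSectionVars false
set_option maxHeartbeats 800000

universe u

open CategoryTheory CategoryTheory.Limits AlgebraicGeometry TopologicalSpace Opposite Abelian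
open Groth.Agent.QC (res resO res_res res_self res_smul resO_resO app_res section_eq_of_locally)
open Groth.Agent.CurveRR (idealIncl secMod secH0 h)
open Groth.Agent.CohFinite (tmap)
open TMul (IsGen tm)

noncomputable section

namespace Groth.Agent.CBSurf

/-- Over every prime containing the ideal there is a socle element. -/
theorem exists_socle_of_prime {A : Type u} [CommRing A] [IsNoetherianRing A] (I : Ideal A)
    (hmax : ∀ p : Ideal A, p.IsPrime → I ≤ p → p.IsMaximal) (m : Ideal A) [hm : m.IsPrime] (hIm : I ≤ m) :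
    ∃ z : A, (∀ a ∈ m, a * z ∈ I) ∧ z ∉ I := by
  have hmin : m ∈ (Module.annihilator A (A ⧸ I)).minimalPrimes := by
    rw [Ideal.annihilator_quotient]
    exact ⟨⟨hm, hIm⟩, fun p hp hpm => ((hmax p hp.1 hp.2).eq_of_le hm.ne_top hpm).ge⟩
  obtain ⟨-, x, hx⟩ := isAssociatedPrime_iff.1
    (Module.associatedPrimes.minimalPrimes_annihilator_subset_associatedPrimes A (A ⧸ I) hmin)
  obtain ⟨z, rfl⟩ := Ideal.Quotient.mk_surjective x
  refine ⟨z, fun a ha => ?_, fun hzI => hm.ne_top ?_⟩
  · rw [hx, Submodule.mem_colon_singleton, Submodule.mem_bot] at ha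
    rw [← Ideal.Quotient.eq_zero_iff_mem]
    exact ha
  · rw [hx, Ideal.eq_top_iff_one, Submodule.mem_colon_singleton, one_smul, Submodule.mem_bot]
    exact Ideal.Quotient.eq_zero_iff_mem.2 hzI

attribute [local instance] CurveRR.secMod valg

variable {k : Type u} [Field k] [IsAlgClosed k] {X : Scheme.{u}} [X.Over (Spec (CommRingCat.of k))]
  [IsProper (X ↘ Spec (CommRingCat.of k))] {IP : X.IdealSheafData} {V : X.affineOpens} {M : X.Modules}
  {e : Γ(M, V.1)} (hfin : (IP.support : Set X).Finite) (hS : (IP.support : Set X) ⊆ (V.1 : Set X))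

include k hfin hS in
/-- Every covering ideal sheaf comes from a socle element. -/
theorem exists_socle_of_covBy {K : X.IdealSheafData} (h : IP ⋖ K) :
    ∃ (m : Ideal Γ(X, V.1)) (z : Γ(X, V.1)), m.IsMaximal ∧ IP.ideal V ≤ m ∧ (∀ a ∈ m, a * z ∈ IP.ideal V) ∧
      z ∉ IP.ideal V ∧ K.ideal V = IP.ideal V ⊔ Ideal.span {z} := by
  haveI := CurveRR.isNoetherian_of_proper k X
  haveI : X.IsSeparated := ⟨by
    rw [terminal.hom_ext (terminal.from X) ((X ↘ Spec (CommRingCat.of k)) ≫ terminal.from _)]; infer_instance⟩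
  haveI : IsNoetherianRing Γ(X, V.1) := IsLocallyNoetherian.component_noetherian V
  have hmax := (primes_spec (IP := IP) (V := V) hfin (isClosed_singleton_support (k := k) hfin)).2
  obtain ⟨z, m, hm, hIm, hzK, hzI, hann⟩ := exists_socle_mem (IP.ideal V) (K := K.ideal V)
    fun hle => h.1.not_ge (le_of_ideal_le hS le_rfl hle)
  obtain ⟨K', hK', hK'V⟩ := exists_ideal_extend (IP := IP) (V := V) (IP.ideal V ⊔ Ideal.span {z}) le_sup_left
  have h1 : K' ≤ K := le_of_ideal_le hS h.1.le (hK'V.le.trans (sup_le (h.1.le V) (by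
    rw [Ideal.span_singleton_le_iff_mem]; exact hzK)))
  rcases h.eq_or_eq hK' h1 with h2 | h2
  · refine absurd ?_ hzI
    rw [← h2, hK'V]
    exact Ideal.mem_sup_right (Ideal.mem_span_singleton_self z)
  · exact ⟨m, z, hmax m hm hIm, hIm, fun a ha => (hann a).1 ha, hzI, h2 ▸ hK'V⟩

variable (hM : PicF.IsInvertible M) (he : IsGen e)

include hfin hS hM he in
/-- Global sections of the twisted ideal are the sections restricting to zero. -/
theorem h0_twist {J : X.IdealSheafData} (hJ : IP ≤ J) :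
    h k (CohB1.tensorMod (ClSub.idealMod J) M) 0 = Module.finrank k (LinearMap.ker (coeff (k := k) J he)) := by
  have hJS : (J.support : Set X) ⊆ (V.1 : Set X) :=
    fun x hx => hS (Scheme.IdealSheafData.support_antitone hJ hx)
  haveI := CurveRR.mono_idealIncl hM J
  let ψ := appL (k := k) (idealIncl J M)
  have hinj : Function.Injective ψ := fun a b hab => QC.app_injective_of_mono (idealIncl J M) ⊤ hab
  have hrange : LinearMap.range ψ = LinearMap.ker (coeff (k := k) J he) := by
    refine le_antisymm ?_ fun s hs => exists_of_coeff_eq_zero hJS hM he s (LinearMap.mem_ker.1 hs)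
    rintro _ ⟨w, rfl⟩
    obtain ⟨a, ha, hwa⟩ := exists_coeff_mem he (res _ (le_top : V.1 ≤ ⊤) w)
    refine LinearMap.mem_ker.2 ?_
    show coeff (k := k) J he ((idealIncl J M).app ⊤ w) = 0
    rw [coeff_eq he _ (c := a) ((app_res _ _ _).trans hwa), Ideal.Quotient.eq_zero_iff_mem]
    exact ha
  rw [← CurveRR.finrank_sec]
  exact (LinearEquiv.ofInjective ψ hinj).finrank_eq.trans (by rw [hrange])

include hfin hS hM he in
/-- The Cayley–Bacharach condition at a cover in terms of sections. -/
theorem cb_iff {K : X.IdealSheafData} (hK : IP ≤ K) :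
    (∀ σ : Coh.structureModule X ⟶ M, PicF2.zeroScheme M σ ≤ K → PicF2.zeroScheme M σ ≤ IP) ↔
      h k (CohB1.tensorMod (ClSub.idealMod K) M) 0 = h k (CohB1.tensorMod (ClSub.idealMod IP) M) 0 := by
  haveI := CurveRR.isNoetherian_of_proper k X
  have hc : ∀ (σ : Coh.structureModule X ⟶ M) (J : X.IdealSheafData), IP ≤ J →
      (PicF2.zeroScheme M σ ≤ J ↔ TMul.val σ ⊤ ∈ LinearMap.ker (coeff (k := k) J he)) := by
    intro σ J hJ
    obtain ⟨c, hc⟩ := exists_coeff he (TMul.val σ ⊤)
    have hzs := ZeroSch.ideal_zeroScheme_eq_span σ hM V he (c := c) ((TMul.res_val σ (le_top : V.1 ≤ ⊤)).symm.trans hc)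
    rw [LinearMap.mem_ker, coeff_eq he _ hc, Ideal.Quotient.eq_zero_iff_mem, ← Ideal.span_singleton_le_iff_mem, ← hzs]
    exact ⟨fun hle => hle V, le_of_ideal_le hS hJ⟩
  rw [h0_twist hfin hS hM he le_rfl, h0_twist hfin hS hM he hK]
  have hle : LinearMap.ker (coeff (k := k) IP he) ≤ LinearMap.ker (coeff (k := k) K he) := fun s hs => by
    obtain ⟨c, hcs⟩ := exists_coeff he s
    rw [LinearMap.mem_ker, coeff_eq he _ hcs, Ideal.Quotient.eq_zero_iff_mem] at hs ⊢
    exact hK V hs
  haveI : Module.Finite k Γ(M, ⊤) :=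
    haveI := CohFinite.finite_proper k X M (CurveRR.isCoh_of_rank (CurveRR.isFinLocFreeOfRank_one hM)) 0
    Module.Finite.equiv (secH0 (k := k) M).symm
  constructor
  · intro hcb
    refine congrArg (fun W : Submodule k Γ(M, ⊤) => Module.finrank k W) (le_antisymm (fun s hs => ?_) hle)
    have hv : TMul.val (TMul.homOf s) ⊤ = s := by rw [TMul.val_homOf, res_self]
    rw [← hv]
    exact (hc _ IP le_rfl).1 (hcb _ ((hc _ K hK).2 (by rwa [hv])))
  · intro heq σ hσ
    refine (hc σ IP le_rfl).2 ?_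
    rw [Submodule.eq_of_le_of_finrank_eq hle heq.symm]
    exact (hc σ K hK).1 hσ

include hfin hS hM he in
/-- The drop of `h¹` along a cover. -/
theorem h1_drop {K : X.IdealSheafData} (hle : IP ≤ K) {m : Ideal Γ(X, V.1)} (hm : m.IsMaximal)
    (hIm : IP.ideal V ≤ m) {z : Γ(X, V.1)} (hz : ∀ a ∈ m, a * z ∈ IP.ideal V) (hzI : z ∉ IP.ideal V)
    (hKV : K.ideal V = IP.ideal V ⊔ Ideal.span {z}) :
    h k (CohB1.tensorMod (ClSub.idealMod IP) M) 1 + h k (CohB1.tensorMod (ClSub.idealMod K) M) 0 =
      h k (CohB1.tensorMod (ClSub.idealMod K) M) 1 + h k (CohB1.tensorMod (ClSub.idealMod IP) M) 0 + 1 := by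
  haveI := CurveRR.isNoetherian_of_proper k X
  haveI := hm.isPrime
  obtain ⟨hG, hsupp, hG1, -⟩ := quot_facts (k := k) hfin hS hle hM he hm hIm hz hzI hKV
  haveI := mono_twistInc hle hM
  let T : ShortComplex X.Modules := ShortComplex.mk (twistInc hle M) (cokernel.π _) (cokernel.condition _)
  have hT : T.ShortExact := { exact := ShortComplex.exact_cokernel _ }
  have hx : IsClosed ({ptOf V m} : Set X) :=
    isClosed_singleton_support (k := k) hfin _ (ptOf_mem_support m hIm)
  have hd0 : topologicalKrullDim ({ptOf V m} : Set X) ≤ 0 := topologicalKrullDim_zero_of_discreteTopology _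
  haveI hG2 : Subsingleton (Coh.HH X T.X₃ 1) :=
    SuppZero.subsingleton_hh_of_supported hx hd0 _ (fun x hx h => hx (hsupp h)) 1 le_rfl
  have hMc : Coh.IsCoh M := CurveRR.isCoh_of_rank (CurveRR.isFinLocFreeOfRank_one hM)
  have hA : ∀ J : X.IdealSheafData, Coh.IsCoh (CohB1.tensorMod (ClSub.idealMod J) M) := fun J =>
    CurveRR.isCoh_tensor' (CurveRR.isCoh_idealMod J).1 hMc
  haveI : Module.Finite k (Coh.HH X T.X₁ 0) := CohFinite.finite_proper k X _ (hA IP) 0
  haveI : Module.Finite k (Coh.HH X T.X₁ 1) := CohFinite.finite_proper k X _ (hA IP) 1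
  haveI : Module.Finite k (Coh.HH X T.X₂ 0) := CohFinite.finite_proper k X _ (hA K) 0
  haveI : Module.Finite k (Coh.HH X T.X₃ 0) := CohFinite.finite_proper k X _ hG 0
  have h1 := LinearMap.finrank_range_add_finrank_ker (CohFinite.hhMap k T.g 0)
  have h2 := LinearMap.finrank_range_add_finrank_ker (CohFinite.hhδ k hT 0)
  have h3 := LinearMap.finrank_range_add_finrank_ker (CohFinite.hhMap k T.f 1)
  rw [← CurveRR.range_f_eq_ker_g hT 0, LinearMap.finrank_range_of_inj (CurveRR.injective_f hT)] at h1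
  rw [← CurveRR.range_g_eq_ker_δ hT 0] at h2
  rw [← CurveRR.range_δ_eq_ker_f hT 0, CurveRR.range_f_eq_ker_g hT 1,
    LinearMap.ker_eq_top.2 (Subsingleton.elim _ _), finrank_top] at h3
  simp only [h] at hG1 ⊢
  change Module.finrank k (Coh.HH X T.X₃ 0) = 1 at hG1
  rw [hG1] at h2
  change Module.finrank k (Coh.HH X T.X₁ 1) + Module.finrank k (Coh.HH X T.X₂ 0) =
    Module.finrank k (Coh.HH X T.X₂ 1) + Module.finrank k (Coh.HH X T.X₁ 0) + 1
  exact (show ∀ a a' b b' p q : ℕ, p + a = b → q + p = 1 → b' + q = a' → a' + b = b' + a + 1 by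
    intros; omega) _ _ _ _ _ _ h1 h2 h3

end Groth.Agent.CBSurf
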