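import Groth.Agent.SurfAdj.Basic
import Groth.Agent.StabK3.TwExt
import Groth.Agent.SuppZero.Basic

/-!
# Ext groups into invertible modules on a smooth projective surface
-/

set_option autoImplicit false
set_option backward.isDefEq.respectTransparency false
set_option backward.isDefEq.respectTransparency.types false
set_option linter.style.haveILetI false
set_option linter.unusedSectionVars false

universe u

open CategoryTheory CategoryTheory.Limits AlgebraicGeometry TopologicalSpace Abelian

noncomputable section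

namespace Groth.Agent.CBSurf

variable (k : Type u) [Field k] [IsAlgClosed k] {X : Scheme.{u}} [X.Over (Spec (CommRingCat.of k))]
  [IsProper (X ↘ Spec (CommRingCat.of k))] [IsIntegral X] [Smooth (X ↘ Spec (CommRingCat.of k))]
  (hdim : topologicalKrullDim X = 2) {ω : X.Modules}
  (hω : ExtPow.IsExtPow 2 (Omega.sheaf (X ↘ Spec (CommRingCat.of k))) ω) [HasExt.{u} X.Modules]

include hdim hω

/-- Serre duality for Ext groups into the canonical module. -/
theorem ext_canonical {F : X.Modules} (hF : Coh.IsCoh F) (m : ℕ) (hm : m ≤ 2) :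
    Module.Finite k (Ext F ω m) ∧ Module.finrank k (Ext F ω m) = CurveRR.h k F (2 - m) := by
  haveI := CurveRR.isNoetherian_of_proper k X
  haveI := SurfAdj.smooth2 k hdim (X := X)
  obtain ⟨N, ι, hι₁, hι⟩ := SurfAdj.exists_emb k hdim (X := X)
  haveI := hι₁
  obtain ⟨t, ht⟩ := ExtFund.exists_trace_smooth ι hι ω hω
  obtain ⟨g⟩ := (SerrePn.duality_of_cm ι hι
    (fun x hx => ExtFund.cm_dim_of_smooth (X ↘ Spec (CommRingCat.of k)) 2 x hx)
    ω (ExtFund.isCoh_top ι hι hω) t ht F hF m).1 hm
  haveI : Module.Finite k (Coh.HH X F (2 - m)) := CohFinite.finite_proper k X F hF (2 - m)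
  exact ⟨Module.Finite.equiv g.symm, g.finrank_eq.trans Subspace.dual_finrank_eq⟩

/-- No extensions in degree at most one of an invertible module by a module with finite support. -/
theorem subsingleton_ext_supported {R N : X.Modules} (hR : Coh.IsCoh R) {S : Set X} (hS : IsClosed S)
    (hd : topologicalKrullDim S ≤ 0) (hsupp : CohB1.support R ⊆ S) (hN : PicF.IsInvertible N) (m : ℕ) (hm : m < 2) :
    Subsingleton (Ext R N m) := by
  haveI := CurveRR.isNoetherian_of_proper k X
  have hωi : PicF.IsInvertible ω := SurfAdj.isInvertible_W k hdim hω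
  obtain ⟨N', hN', ⟨e₁⟩⟩ := W7Hull.exists_tensor_inverse hN
  obtain ⟨W', hW', ⟨e₂⟩⟩ := W7Hull.exists_tensor_inverse hωi
  let T := CohB1.tensorMod N' ω
  have hT : PicF.IsInvertible T := TMul.isInvertible_tensorMod hN' hωi
  let T' := CohB1.tensorMod N W'
  have hTc : Coh.IsCoh T := CurveRR.isCoh_of_rank (CurveRR.isFinLocFreeOfRank_one hT)
  let eN : CohB1.tensorMod N' N ≅ Coh.structureModule X := TMul.commIso _ _ ≪≫ e₁
  let eW : CohB1.tensorMod ω W' ≅ Coh.structureModule X := e₂
  let θ : CohB1.tensorMod T T' ≅ Coh.structureModule X :=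
    TMul.swapIso N' ω N W' ≪≫ PicGrp.tensorModIso eN eW ≪≫ TMul.leftUnitIso _
  obtain ⟨e⟩ := StabK3.ext_tens_equiv k θ R N m
  have hRT : Coh.IsCoh (CohB1.tensorMod R T) := RefDiv.isCoh_tensor hR hTc
  obtain ⟨hf, hfr⟩ := ext_canonical k hdim hω hRT m (by omega)
  have hv : Subsingleton (Coh.HH X (CohB1.tensorMod R T) (2 - m)) :=
    CohQC.hh_subsingleton_of_iso (TMul.commIso T R) (2 - m)
      ((CurveRR.h0_tensor (k := k) hR hS hd hsupp (CurveRR.isFinLocFreeOfRank_one hT)).2 (2 - m) (by omega))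
  have h0 : Module.finrank k (Ext (CohB1.tensorMod R T) ω m) = 0 := hfr.trans (by
    haveI := hv
    exact Module.finrank_zero_of_subsingleton)
  haveI := hf
  haveI : Subsingleton (Ext (CohB1.tensorMod R T) ω m) := Module.finrank_zero_iff.1 h0
  let i : CohB1.tensorMod N T ≅ ω :=
    (TMul.assocIso N N' ω).symm ≪≫ PicGrp.tensorModIso e₁ (Iso.refl ω) ≪≫ TMul.leftUnitIso ω
  refine subsingleton_of_forall_eq 0 fun x => e.injective ?_
  rw [map_zero]
  have h1 : (e x).comp (Ext.mk₀ i.hom) (add_zero m) = 0 := Subsingleton.elim _ _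
  calc e x = ((e x).comp (Ext.mk₀ i.hom) (add_zero m)).comp (Ext.mk₀ i.inv) (add_zero m) := by
        rw [Ext.comp_assoc_of_third_deg_zero, Ext.mk₀_comp_mk₀, Iso.hom_inv_id, Ext.comp_mk₀_id]
    _ = 0 := by rw [h1, Ext.zero_comp]

end Groth.Agent.CBSurf
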