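import Groth.Agent.CBSurf.Bundle
import Groth.Agent.QuotProj.HilbQ
import Groth.Agent.AmpleEmb.Criterion
import Mathlib.GroupTheory.CosetCover

/-!
# Extensions of an ideal that fail to be bundles come from larger ideals
-/

set_option autoImplicit false
set_option backward.isDefEq.respectTransparency false
set_option backward.isDefEq.respectTransparency.types false
set_option linter.style.haveILetI false
set_option linter.unusedSectionVars false
set_option maxHeartbeats 1000000

universe u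

open CategoryTheory CategoryTheory.Limits AlgebraicGeometry TopologicalSpace Opposite Abelian
open Groth.Agent.QC (app_res section_eq_of_locally)

noncomputable section

namespace Groth.Agent.CBSurf

variable {X : Scheme.{u}}

/-- a quasi-coherent submodule of the structure module is an ideal sheaf -/
theorem exists_idealMod_of_mono {P : X.Modules} (hP : Coh.IsQCoh P) (j : P ⟶ Coh.structureModule X) [Mono j] :
    ∃ (K : X.IdealSheafData) (θ : P ≅ ClSub.idealMod K), θ.hom ≫ ClSub.idealModι K = j := by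
  haveI := hP
  let K := QC.idealSheafOf j
  have h2 : j ≫ ClSub.toSubscheme K = 0 := by
    refine Scheme.Modules.hom_ext _ _ fun U => ?_
    ext s
    show (ClSub.toSubscheme K).app U (j.app U s) = (0 : Γ(ClSub.quotMod K, U))
    refine section_eq_of_locally fun y hy => ?_
    obtain ⟨W, hW, hyW, hWU⟩ := exists_isAffineOpen_mem_and_subset hy
    refine ⟨W, hWU, hyW, ?_⟩
    rw [map_zero, app_res, app_res]
    exact (QuotProj.HilbQ.mem_ideal_iff K ⟨W, hW⟩ (j.app W (QC.res P hWU s))).1 ⟨_, rfl⟩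
  have h1 : ClSub.idealModι K ≫ cokernel.π j = 0 := by
    refine QuotProj.HilbQ.kernel_comp_eq_zero (ClSub.toSubscheme K) (cokernel.π j) IsAffineOpen
      (fun U x hx => exists_isAffineOpen_mem_and_subset hx) fun V hV r hr => ?_
    obtain ⟨a, ha⟩ := (QuotProj.HilbQ.mem_ideal_iff K ⟨V, hV⟩ r).2 hr
    rw [← ha]
    exact congrArg (fun φ : P ⟶ cokernel j => φ.app V a) (cokernel.condition j)
  let a : P ⟶ ClSub.idealMod K := kernel.lift (ClSub.toSubscheme K) j h2
  have ha : a ≫ ClSub.idealModι K = j := kernel.lift_ι _ _ _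
  let b : ClSub.idealMod K ⟶ P := Abelian.monoLift j (ClSub.idealModι K) h1
  have hb : b ≫ j = ClSub.idealModι K := Abelian.monoLift_comp _ _ _
  exact ⟨K, ⟨a, b, (cancel_mono j).1 (by rw [Category.assoc, hb, ha, Category.id_comp]),
    (cancel_mono (ClSub.idealModι K)).1 (by rw [Category.assoc, ha, hb, Category.id_comp])⟩, ha⟩

theorem le_of_comp_ι {IP K : X.IdealSheafData} (φ : ClSub.idealMod IP ⟶ ClSub.idealMod K)
    (h : φ ≫ ClSub.idealModι K = ClSub.idealModι IP) : IP ≤ K := fun V r hr => by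
  obtain ⟨a, ha⟩ := (QC.mem_range_idealModι_affine IP V r).2 hr
  refine (QC.mem_range_idealModι_affine K V r).1 ⟨φ.app V.1 a, ?_⟩
  rw [← ha, ← h]
  rfl

theorem not_isZero_quotMod {K : X.IdealSheafData} (hK : (K.support : Set X).Nonempty) :
    ¬ IsZero (ClSub.quotMod K) := fun hz => by
  obtain ⟨x, hx⟩ := hK
  have : K = ⊤ := by
    refine Scheme.IdealSheafData.ext (funext fun V => eq_top_iff.2 fun r _ => ?_)
    rw [QuotProj.HilbQ.mem_ideal_iff, hz.eq_of_tgt (ClSub.toSubscheme K) 0]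
    rfl
  rw [this, Scheme.IdealSheafData.support_top] at hx
  exact hx

variable {k : Type u} [Field k] [IsAlgClosed k] [X.Over (Spec (CommRingCat.of k))]
  [IsProper (X ↘ Spec (CommRingCat.of k))] [IsIntegral X] [Smooth (X ↘ Spec (CommRingCat.of k))]
  (hdim : topologicalKrullDim X = 2) {M : X.Modules} (hM : PicF.IsInvertible M)
  {IZ : X.IdealSheafData} (hfin : (IZ.support : Set X).Finite)

include k hdim hM hfin in
/-- An extension pulled back from a larger ideal is not a bundle. -/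
theorem not_locFree_of_enlarge {I' : X.IdealSheafData} {F F' : X.Modules}
    {a : M ⟶ F} {b : F ⟶ ClSub.idealMod IZ} {w : a ≫ b = 0} (hS : (ShortComplex.mk a b w).ShortExact)
    {a' : M ⟶ F'} {b' : F' ⟶ ClSub.idealMod I'} {w' : a' ≫ b' = 0} (hS' : (ShortComplex.mk a' b' w').ShortExact)
    {φ : ClSub.idealMod IZ ⟶ ClSub.idealMod I'} (hφ : φ ≫ ClSub.idealModι I' = ClSub.idealModι IZ)
    {g : F ⟶ F'} (hga : a ≫ g = a') (hgb : g ≫ b' = b ≫ φ) (hlt : IZ < I') : ¬ FlatMod.IsFinLocFree F := by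
  intro hF
  haveI := CurveRR.isNoetherian_of_proper k X
  haveI : Mono φ := mono_of_mono_fac hφ
  haveI := hS'.mono_f
  haveI := hS.mono_f
  haveI : Epi b := hS.epi_g
  haveI : Epi b' := hS'.epi_g
  haveI : Mono g := Preadditive.mono_of_cancel_zero g fun {W} v hv => by
    have h1 : v ≫ b = 0 := (cancel_mono φ).1 (by rw [Category.assoc, ← hgb, reassoc_of% hv, zero_comp, zero_comp])
    obtain ⟨t, rfl⟩ : ∃ t : W ⟶ M, t ≫ a = v := ⟨hS.exact.lift v h1, hS.exact.lift_f v h1⟩
    rw [Category.assoc, hga] at hv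
    rw [zero_of_comp_mono a' hv, zero_comp]
  -- the cokernel is a quotient of the cokernel of the inclusion
  have hd1 : a' ≫ cokernel.π g = 0 := by rw [← hga, Category.assoc, cokernel.condition, comp_zero]
  haveI : Epi (ShortComplex.mk a' b' w').g := hS'.epi_g
  let ψ : ClSub.idealMod I' ⟶ cokernel g := hS'.exact.desc (cokernel.π g) hd1
  have hψ : b' ≫ ψ = cokernel.π g := hS'.exact.g_desc _ _
  have hφψ : φ ≫ ψ = 0 := (cancel_epi b).1 (by
    rw [← Category.assoc, ← hgb, Category.assoc, hψ, cokernel.condition, comp_zero])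
  haveI : Epi ψ := epi_of_epi_fac hψ
  let π := cokernel.desc φ ψ hφψ
  haveI : Epi π := epi_of_epi_fac (cokernel.π_desc φ ψ hφψ)
  let j : cokernel φ ⟶ cokernel (ClSub.idealModι IZ) :=
    cokernel.map φ (ClSub.idealModι IZ) (𝟙 _) (ClSub.idealModι I') (by rw [Category.id_comp, hφ])
  haveI : Mono j := Abelian.mono_cokernel_map_of_isPullback
    (IsPullback.of_vert_isIso_mono ⟨by rw [Category.id_comp, hφ]⟩)
  let e : cokernel (ClSub.idealModι IZ) ≅ ClSub.quotMod IZ :=
    IsColimit.coconePointUniqueUpToIso (cokernelIsCokernel _) (CurveRR.ideal_shortExact IZ).gIsCokernel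
  have hsupp : CohB1.support (cokernel g) ⊆ (IZ.support : Set X) :=
    ((W7Exist.support_of_epi π).trans (W7Exist.support_of_mono (j ≫ e.hom))).trans (CurveRR.support_quotMod IZ)
  have hMc : Coh.IsCoh M := CurveRR.isCoh_of_rank (CurveRR.isFinLocFreeOfRank_one hM)
  have hF'c : Coh.IsCoh F' := StabLib.Sh.isCoh_mid hS' hMc (CurveRR.isCoh_idealMod I').1
  have hMtf : TorSh.IsTorsionFree M := fun x => by
    haveI := LocFree.free_stalk_of_isFinLocFree (ResDesc.isFinLocFree_of_isInvertible hM) x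
    infer_instance
  have hOtf : TorSh.IsTorsionFree (Coh.structureModule X) := fun x => by
    haveI := LocFree.free_stalk_of_isFinLocFree (ResDesc.isFinLocFree_structureModule X) x
    infer_instance
  have hI'tf : TorSh.IsTorsionFree (ClSub.idealMod I') := StabK3.isTorsionFree_sub (ClSub.idealModι I') hOtf
  have hd : topologicalKrullDim (IZ.support : Set X) ≤ 0 := by
    have hcl := isClosed_singleton_support (k := k) hfin
    haveI : Finite (IZ.support : Set X) := hfin.to_subtype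
    haveI : T1Space (IZ.support : Set X) := t1Space_iff_exists_open.2 fun a b hab =>
      ⟨Subtype.val ⁻¹' ({b.1}ᶜ : Set X), (hcl b.1 b.2).isOpen_compl.preimage continuous_subtype_val,
        fun h => hab (Subtype.ext h), fun h => h rfl⟩
    exact topologicalKrullDim_zero_of_discreteTopology _
  haveI : IsIso g := StabK3.isIso_of_off_finite k hdim g hF hF'c (StabK3.isTorsionFree_mid hS' hMtf hI'tf)
    ((Intersect.dim_mono hsupp).trans hd)
  haveI : Epi (b ≫ φ) := by rw [← hgb]; infer_instance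
  haveI : Epi φ := epi_of_epi b φ
  haveI : IsIso φ := isIso_of_mono_of_epi φ
  exact hlt.not_ge (le_of_comp_ι (inv φ) (by rw [IsIso.inv_comp_eq, hφ]))

variable [HasExt.{u} X.Modules]

include k hdim hM in
/-- A non-bundle extension of an ideal comes from a strictly larger ideal. -/
theorem exists_enlarge_class {F : X.Modules}
    {a : M ⟶ F} {b : F ⟶ ClSub.idealMod IZ} {w : a ≫ b = 0} (hS : (ShortComplex.mk a b w).ShortExact)
    (hF : ¬ FlatMod.IsFinLocFree F) :
    ∃ (I' : X.IdealSheafData) (φ : ClSub.idealMod IZ ⟶ ClSub.idealMod I'), IZ < I' ∧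
      φ ≫ ClSub.idealModι I' = ClSub.idealModι IZ ∧
      ∃ y : Ext (ClSub.idealMod I') M 1, (Ext.mk₀ φ).comp y (zero_add 1) = hS.extClass := by
  haveI := CurveRR.isNoetherian_of_proper k X
  haveI := SerrePn.enoughInjectives (X := X)
  haveI := SurfAdj.smooth2 k hdim
  obtain ⟨ω, hω⟩ := ExtFund.exists_topPower (k := k) (X := X)
  have hMc : Coh.IsCoh M := CurveRR.isCoh_of_rank (CurveRR.isFinLocFreeOfRank_one hM)
  have hFc : Coh.IsCoh F := StabLib.Sh.isCoh_mid hS hMc (CurveRR.isCoh_idealMod IZ).1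
  obtain ⟨z, hz, hzfree⟩ : ∃ z : X, IsClosed ({z} : Set X) ∧
      ¬ Module.Free (X.presheaf.stalk z) (F.presheaf.stalk z) := by
    by_contra! h
    exact hF (AmpleEmb.isFinLocFree_of_free_closed hFc h)
  let Jz := Scheme.IdealSheafData.vanishingIdeal (⟨{z}, hz⟩ : Closeds X)
  have hJs : (Jz.support : Set X) = {z} := Scheme.IdealSheafData.coe_support_vanishingIdeal _
  let G := ClSub.quotMod Jz
  have hG : Coh.IsCoh G := (CurveRR.isCoh_idealMod Jz).2
  have hGs : CohB1.support G ⊆ ({z} : Set X) := (CurveRR.support_quotMod Jz).trans hJs.le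
  have hd0 : topologicalKrullDim ({z} : Set X) ≤ 0 := topologicalKrullDim_zero_of_discreteTopology _
  have hv : ∀ {R N : X.Modules}, Coh.IsCoh R → CohB1.support R ⊆ ({z} : Set X) → PicF.IsInvertible N →
      ∀ m < 2, Subsingleton (Ext R N m) := fun hR hs hN m hm =>
    subsingleton_ext_supported k hdim hω hR hz hd0 hs hN m hm
  have hO : PicF.IsInvertible (Coh.structureModule X) := PicLoc.isInvertible_structureModule X
  obtain ⟨j, hj, hjne⟩ : ∃ j < 2, ¬ Subsingleton (Ext G F j) := by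
    by_contra! h
    exact hzfree (free_stalk_of_ext (k := k) hFc hG hz
      (not_isZero_quotMod (K := Jz) ⟨z, hJs.ge rfl⟩) hGs (regular_dim_two (k := k) hdim hz).1
      (regular_dim_two (k := k) hdim hz).2 fun j hj => h j hj)
  have hδ := CurveRR.ideal_shortExact IZ
  haveI := hv hG hGs hO 0 (by omega)
  haveI := hv hG hGs hO 1 (by omega)
  haveI := hv hG hGs hM 0 (by omega)
  haveI := hv hG hGs hM 1 (by omega)
  have hno0 : ∀ x : Ext G (ClSub.idealMod IZ) 0, x = 0 := fun x => by
    obtain ⟨v, rfl⟩ := (Ext.mk₀_bijective _ _).2 x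
    have : v ≫ ClSub.idealModι IZ = 0 := (Ext.mk₀_bijective _ _).1 (Subsingleton.elim _ _)
    rw [show v = 0 from zero_of_comp_mono _ this, Ext.mk₀_zero]
  interval_cases j
  · refine absurd (subsingleton_of_forall_eq 0 fun x => ?_) hjne
    obtain ⟨t, rfl⟩ := Ext.covariant_sequence_exact₂ G hS x (hno0 _)
    rw [Subsingleton.elim t 0, Ext.zero_comp]
  obtain ⟨η, hη⟩ : ∃ η : Ext G F 1, η ≠ 0 := by
    by_contra! h
    exact hjne (subsingleton_of_forall_eq 0 h)
  have hη' : η.comp (Ext.mk₀ b) (add_zero 1) ≠ 0 := fun h0 => hη (by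
    obtain ⟨t, rfl⟩ := Ext.covariant_sequence_exact₂ G hS η h0
    rw [Subsingleton.elim t 0, Ext.zero_comp])
  obtain ⟨y₀, hy₀⟩ := Ext.covariant_sequence_exact₁ G hδ (η.comp (Ext.mk₀ b) (add_zero 1))
    (Subsingleton.elim _ _) (zero_add 1)
  obtain ⟨f, rfl⟩ := (Ext.mk₀_bijective _ _).2 y₀
  have hf : f ≠ 0 := by
    rintro rfl
    exact hη' (by rw [← hy₀, Ext.mk₀_zero, Ext.zero_comp])
  -- the ideal of the image
  let Q' := Abelian.image f
  let i : Q' ⟶ ClSub.quotMod IZ := Abelian.image.ι f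
  let p : G ⟶ Q' := Abelian.factorThruImage f
  have hpi : p ≫ i = f := Abelian.image.fac f
  obtain ⟨wP, hP⟩ := StabK3.shortExact_pullback hδ i
  have hQ'c : Coh.IsCoh Q' := QC.isCoh_kernel (CurveRR.isCoh_idealMod IZ).2
    (QC.isCoh_cokernel hG.1 (CurveRR.isCoh_idealMod IZ).2 f).1 _
  have hPc : Coh.IsCoh (pullback (ClSub.toSubscheme IZ) i) :=
    StabLib.Sh.isCoh_mid hP (CurveRR.isCoh_idealMod IZ).1 hQ'c
  haveI : Mono i := inferInstanceAs (Mono (Abelian.image.ι f))
  obtain ⟨I', θ, hθ⟩ := exists_idealMod_of_mono hPc.1 (pullback.fst (ClSub.toSubscheme IZ) i)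
  let l : ClSub.idealMod IZ ⟶ pullback (ClSub.toSubscheme IZ) i :=
    pullback.lift (ClSub.idealModι IZ) 0 (by
      rw [zero_comp]; exact kernel.condition (ClSub.toSubscheme IZ))
  let φ := l ≫ θ.hom
  have hφ : φ ≫ ClSub.idealModι I' = ClSub.idealModι IZ := by
    rw [Category.assoc, hθ]
    exact pullback.lift_fst _ _ _
  have hne : IZ ≠ I' := by
    intro h
    subst h
    have h1 : φ = 𝟙 _ := (cancel_mono (ClSub.idealModι IZ)).1 (hφ.trans (Category.id_comp _).symm)
    haveI : Epi φ := by rw [h1]; infer_instance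
    haveI : Epi l := by
      have h2 : l = φ ≫ θ.inv := by simp [φ]
      rw [h2]; infer_instance
    have hs0 : pullback.snd (ClSub.toSubscheme IZ) i = 0 := (cancel_epi l).1 (by
      rw [comp_zero]; exact wP)
    haveI : Epi (pullback.snd (ClSub.toSubscheme IZ) i) := hP.epi_g
    have hz' : IsZero Q' := IsZero.of_epi_eq_zero _ hs0
    exact hf (by rw [← hpi, hz'.eq_of_tgt p 0, zero_comp])
  refine ⟨I', φ, lt_of_le_of_ne (le_of_comp_ι φ hφ) hne, hφ, ?_⟩
  -- the obstruction vanishes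
  let φ₀ : ShortComplex.mk _ _ wP ⟶
      ShortComplex.mk (ClSub.idealModι IZ) (ClSub.toSubscheme IZ) (kernel.condition _) :=
    { τ₁ := 𝟙 _, τ₂ := pullback.fst _ i, τ₃ := i
      comm₁₂ := by simp
      comm₂₃ := pullback.condition }
  have hnat := ShortComplex.ShortExact.extClass_naturality hP hδ φ₀
  have hPcl : hP.extClass = (Ext.mk₀ i).comp hδ.extClass (zero_add 1) := (Ext.comp_mk₀_id _).symm.trans hnat
  have hp : (Ext.mk₀ p).comp hP.extClass (zero_add 1) = η.comp (Ext.mk₀ b) (add_zero 1) := by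
    rw [← hy₀, hPcl, Ext.mk₀_comp_mk₀_assoc, hpi]
  let c := hP.extClass.comp hS.extClass (rfl : 1 + 1 = 2)
  have hc0 : (Ext.mk₀ p).comp c (zero_add 2) = 0 := by
    rw [← Ext.comp_assoc (Ext.mk₀ p) hP.extClass hS.extClass (zero_add 1) (rfl : 1 + 1 = 2) (by omega), hp,
      Ext.comp_assoc η (Ext.mk₀ b) hS.extClass (add_zero 1) (zero_add 1) (by omega), hS.comp_extClass, Ext.comp_zero]
  haveI : Epi p := inferInstanceAs (Epi (Abelian.factorThruImage f))
  have hker : (ShortComplex.mk (kernel.ι p) p (kernel.condition p)).ShortExact :=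
    { exact := ShortComplex.exact_kernel p }
  haveI : Subsingleton (Ext (kernel p) M 1) :=
    hv (QC.isCoh_kernel hG hQ'c.1 p) ((W7Exist.support_of_mono (kernel.ι p)).trans hGs) hM 1 (by omega)
  have hc : c = 0 := by
    obtain ⟨t, ht⟩ := Ext.contravariant_sequence_exact₃ hker M c hc0 (rfl : 1 + 1 = 2)
    rw [← ht, Subsingleton.elim t 0, Ext.comp_zero]
  obtain ⟨y, hy⟩ := Ext.contravariant_sequence_exact₁ hP M hS.extClass (rfl : 1 + 1 = 2) hc
  refine ⟨(Ext.mk₀ θ.inv).comp y (zero_add 1), ?_⟩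
  rw [Ext.mk₀_comp_mk₀_assoc, show φ ≫ θ.inv = l by simp [φ]]
  exact hy

include k hdim hM in
theorem exists_enlarge {F : X.Modules}
    {a : M ⟶ F} {b : F ⟶ ClSub.idealMod IZ} {w : a ≫ b = 0} (hS : (ShortComplex.mk a b w).ShortExact)
    (hF : ¬ FlatMod.IsFinLocFree F) :
    ∃ (I' : X.IdealSheafData) (F' : X.Modules) (a' : M ⟶ F') (b' : F' ⟶ ClSub.idealMod I') (w' : a' ≫ b' = 0)
      (φ : ClSub.idealMod IZ ⟶ ClSub.idealMod I') (g : F ⟶ F'),
      IZ < I' ∧ (ShortComplex.mk a' b' w').ShortExact ∧ φ ≫ ClSub.idealModι I' = ClSub.idealModι IZ ∧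
        a ≫ g = a' ∧ g ≫ b' = b ≫ φ := by
  haveI := CurveRR.isNoetherian_of_proper k X
  haveI := SerrePn.enoughInjectives (X := X)
  obtain ⟨I', φ, hlt, hφ, y, hy⟩ := exists_enlarge_class (k := k) hdim hM hS hF
  obtain ⟨F', a', b', w', hS', rfl⟩ := StabK3.exists_extension y
  obtain ⟨wV, hV⟩ := StabK3.shortExact_pullback hS' φ
  let φ₀ : ShortComplex.mk _ _ wV ⟶ ShortComplex.mk a' b' w' :=
    { τ₁ := 𝟙 M, τ₂ := pullback.fst b' φ, τ₃ := φ
      comm₁₂ := by simp
      comm₂₃ := pullback.condition }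
  have hnat := ShortComplex.ShortExact.extClass_naturality hV hS' φ₀
  obtain ⟨u, -, hu₁, hu₂⟩ := CGrpExt.exists_iso_of_extClass_eq a b _ _ hS hV
    (hy.symm.trans (hnat.symm.trans (Ext.comp_mk₀_id _)))
  refine ⟨I', F', a', b', w', φ, u ≫ pullback.fst b' φ, hlt, hS', hφ, ?_, ?_⟩
  · rw [← Category.assoc, hu₁, pullback.lift_fst]
  · rw [Category.assoc, pullback.condition, ← Category.assoc, hu₂]

end Groth.Agent.CBSurf
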