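import Groth.Agent.CBSurf.Main
import Groth.Agent.AbelMap.Section

/-!
# Reduced finite subschemes of a surface
-/

set_option autoImplicit false
set_option backward.isDefEq.respectTransparency false
set_option backward.isDefEq.respectTransparency.types false
set_option linter.style.haveILetI false
set_option linter.unusedSectionVars false
set_option maxHeartbeats 800000

universe u

open CategoryTheory CategoryTheory.Limits AlgebraicGeometry TopologicalSpace Opposite

noncomputable section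

namespace Groth.Agent.CBSurf

variable {X : Scheme.{u}} {Z : Closeds X} {W : X.affineOpens}

theorem mem_vanishing (c : Γ(X, W.1)) :
    c ∈ (Scheme.IdealSheafData.vanishingIdeal Z).ideal W ↔
      ∀ q : PrimeSpectrum Γ(X, W.1), W.2.fromSpec q ∈ Z → c ∈ q.asIdeal := by
  show c ∈ PrimeSpectrum.vanishingIdeal _ ↔ _
  rw [PrimeSpectrum.mem_vanishingIdeal]
  exact Iff.rfl

/-- A finite set of smooth surface points is cut out by two equations near each point. -/
theorem lci_of_points {k : Type u} [Field k] [X.Over (Spec (CommRingCat.of k))]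
    [IsProper (X ↘ Spec (CommRingCat.of k))] (hfin : (Z : Set X).Finite)
    (hcl : ∀ z ∈ (Z : Set X), IsClosed ({z} : Set X))
    (hreg : ∀ z ∈ (Z : Set X), IsRegularLocalRing (X.presheaf.stalk z) ∧
      ringKrullDim (X.presheaf.stalk z) = (2 : ℕ)) (x : X) :
    ∃ W : X.affineOpens, x ∈ (W : X.Opens) ∧
      ∃ a b : Γ(X, W), (Scheme.IdealSheafData.vanishingIdeal Z).ideal W = Ideal.span {a, b} := by
  classical
  haveI := CurveRR.isNoetherian_of_proper k X
  have hZ' : IsClosed ((Z : Set X) \ {x}) := by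
    rw [← Set.biUnion_of_singleton ((Z : Set X) \ {x})]
    exact (hfin.subset Set.diff_subset).isClosed_biUnion fun y hy => hcl y hy.1
  obtain ⟨W, hW, hxW, hWZ⟩ := exists_isAffineOpen_mem_and_subset (U := (⟨((Z : Set X) \ {x})ᶜ, hZ'.isOpen_compl⟩ : X.Opens))
    (x := x) (fun h => h.2 rfl)
  have honly : ∀ q : PrimeSpectrum Γ(X, W), hW.fromSpec q ∈ Z → hW.fromSpec q = x := fun q hq => by
    by_contra hne
    exact hWZ (hW.range_fromSpec.subset ⟨q, rfl⟩) ⟨hq, hne⟩
  by_cases hxZ : x ∈ (Z : Set X)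
  swap
  · refine ⟨⟨W, hW⟩, hxW, 1, 1, ?_⟩
    rw [Set.pair_eq_singleton, Ideal.span_singleton_one, Ideal.eq_top_iff_one, mem_vanishing]
    intro q hq
    exact absurd (honly q hq ▸ hq) hxZ
  let q := hW.primeIdealOf ⟨x, hxW⟩
  have hqx : hW.fromSpec q = x := hW.fromSpec_primeIdealOf ⟨x, hxW⟩
  have hI : (Scheme.IdealSheafData.vanishingIdeal Z).ideal ⟨W, hW⟩ = q.asIdeal := by
    ext c
    rw [mem_vanishing]
    refine ⟨fun h => h q (by rw [hqx]; exact hxZ), fun hc q' hq' => ?_⟩
    rwa [hW.fromSpec.isOpenEmbedding.injective ((honly q' hq').trans hqx.symm)]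
  obtain ⟨hr, hd⟩ := hreg x hxZ
  letI := (X.presheaf.germ W x hxW).hom.toAlgebra
  haveI : IsLocalization.AtPrime (X.presheaf.stalk x) q.asIdeal := hW.isLocalization_stalk ⟨x, hxW⟩
  obtain ⟨rs, hlen, -, hspan⟩ := SerreReg.exists_regular_rsop 2 (X.presheaf.stalk x) hd
  obtain ⟨u, v, rfl⟩ : ∃ u v, rs = [u, v] := by
    match rs, hlen with
    | [u, v], _ => exact ⟨u, v, rfl⟩
  obtain ⟨⟨a, s⟩, hu⟩ := IsLocalization.surj q.asIdeal.primeCompl u
  obtain ⟨⟨b, t⟩, hv⟩ := IsLocalization.surj q.asIdeal.primeCompl v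
  have hmap : q.asIdeal.map (algebraMap Γ(X, W) (X.presheaf.stalk x)) =
      (Ideal.span {a, b}).map (algebraMap Γ(X, W) (X.presheaf.stalk x)) := by
    rw [IsLocalization.AtPrime.map_eq_maximalIdeal q.asIdeal (X.presheaf.stalk x), ← hspan, Ideal.map_span,
      Set.image_pair, ← hu, ← hv]
    simp only [Ideal.span_insert]
    rw [Ideal.span_singleton_mul_right_unit (IsLocalization.map_units _ s),
      Ideal.span_singleton_mul_right_unit (IsLocalization.map_units _ t)]
    refine le_antisymm (Ideal.span_le.2 fun w hw => ?_) (sup_le ?_ ?_)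
    · simp at hw
      rcases hw with rfl | rfl
      · exact Ideal.mem_sup_left (Ideal.mem_span_singleton_self _)
      · exact Ideal.mem_sup_right (Ideal.mem_span_singleton_self _)
    · rw [Ideal.span_singleton_le_iff_mem]; exact Ideal.subset_span (by simp)
    · rw [Ideal.span_singleton_le_iff_mem]; exact Ideal.subset_span (by simp)
  have hab : Ideal.span {a, b} ≤ q.asIdeal := by
    rw [← IsLocalization.AtPrime.comap_maximalIdeal (S := X.presheaf.stalk x) q.asIdeal, ← Ideal.map_le_iff_le_comap,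
      ← hmap, IsLocalization.AtPrime.map_eq_maximalIdeal q.asIdeal (X.presheaf.stalk x)]
  haveI : IsNoetherianRing Γ(X, W) := IsLocallyNoetherian.component_noetherian ⟨W, hW⟩
  obtain ⟨G, hG⟩ := (IsNoetherian.noetherian q.asIdeal : q.asIdeal.FG)
  have hs : ∀ g ∈ G, ∃ f ∈ q.asIdeal.primeCompl, f * g ∈ Ideal.span {a, b} := fun g hg => by
    have : algebraMap Γ(X, W) (X.presheaf.stalk x) g ∈
        (Ideal.span {a, b}).map (algebraMap Γ(X, W) (X.presheaf.stalk x)) := by
      rw [← hmap]
      exact Ideal.mem_map_of_mem _ (hG ▸ Submodule.subset_span hg)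
    rwa [IsLocalization.algebraMap_mem_map_algebraMap_iff q.asIdeal.primeCompl] at this
  choose! f hf hfg using hs
  let F := ∏ g ∈ G, f g
  have hF : F ∈ q.asIdeal.primeCompl := Submonoid.prod_mem _ fun g hg => hf g hg
  have hle : ∀ c ∈ q.asIdeal, F * c ∈ Ideal.span {a, b} := fun c hc => by
    rw [← hG] at hc
    induction hc using Submodule.span_induction with
    | mem g hg =>
      rw [show F = (∏ g' ∈ G.erase g, f g') * f g from (Finset.prod_erase_mul G f hg).symm, mul_assoc]
      exact Ideal.mul_mem_left _ _ (hfg g hg)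
    | zero => rw [mul_zero]; exact zero_mem _
    | add c d _ _ h1 h2 => rw [mul_add]; exact add_mem h1 h2
    | smul r c _ h1 => rw [smul_eq_mul, mul_left_comm]; exact Ideal.mul_mem_left _ _ h1
  have hxF : x ∈ X.basicOpen F := by
    rw [← hqx]
    exact (hW.fromSpec_preimage_basicOpen F).ge hF
  refine ⟨X.affineBasicOpen (U := ⟨W, hW⟩) F, hxF, X.presheaf.map (homOfLE (X.basicOpen_le F)).op a,
    X.presheaf.map (homOfLE (X.basicOpen_le F)).op b, ?_⟩
  rw [← (Scheme.IdealSheafData.vanishingIdeal Z).map_ideal_basicOpen ⟨W, hW⟩ F, hI, ← Set.image_pair]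
  refine Eq.trans ?_ (Ideal.map_span (X.presheaf.map (homOfLE (X.basicOpen_le F)).op).hom {a, b})
  refine le_antisymm (Ideal.map_le_iff_le_comap.2 fun c hc => ?_) (Ideal.map_mono hab)
  rw [Ideal.mem_comap, ← Ideal.unit_mul_mem_iff_mem _ (RingedSpace.isUnit_res_basicOpen _ F)]
  have h2 := Ideal.mem_map_of_mem (X.presheaf.map (homOfLE (X.basicOpen_le F)).op).hom (hle c hc)
  rw [map_mul] at h2
  exact h2

variable {k : Type u} [Field k] [IsAlgClosed k] [X.Over (Spec (CommRingCat.of k))]
  [IsProper (X ↘ Spec (CommRingCat.of k))]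

include k in
/-- Cayley–Bacharach for a reduced finite subscheme, point by point. -/
theorem cb_points_iff {M : X.Modules} (hM : PicF.IsInvertible M) {H : X.Modules} (hH : CohB1.IsAmple H)
    (hfin : (Z : Set X).Finite) :
    (∀ I' : X.IdealSheafData, Scheme.IdealSheafData.vanishingIdeal Z ⋖ I' → ∀ σ : Coh.structureModule X ⟶ M,
        PicF2.zeroScheme M σ ≤ I' → PicF2.zeroScheme M σ ≤ Scheme.IdealSheafData.vanishingIdeal Z) ↔
      ∀ z ∈ (Z : Set X), ∀ σ : Coh.structureModule X ⟶ M,
        (∀ z' ∈ (Z : Set X), z' ≠ z → z' ∈ (PicF2.zeroScheme M σ).support) → z ∈ (PicF2.zeroScheme M σ).support := by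
  haveI := CurveRR.isNoetherian_of_proper k X
  haveI : X.IsSeparated := ⟨by
    rw [terminal.hom_ext (terminal.from X) ((X ↘ Spec (CommRingCat.of k)) ≫ terminal.from _)]; infer_instance⟩
  have hsupp : ((Scheme.IdealSheafData.vanishingIdeal Z).support : Set X) = Z :=
    Scheme.IdealSheafData.coe_support_vanishingIdeal _
  have hfin' : ((Scheme.IdealSheafData.vanishingIdeal Z).support : Set X).Finite := hsupp ▸ hfin
  obtain ⟨V, e, -, hZV, he, -⟩ := exists_affine_gens hH hfin hM hM
  have hS : ((Scheme.IdealSheafData.vanishingIdeal Z).support : Set X) ⊆ (V.1 : Set X) := hsupp ▸ hZV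
  haveI : IsNoetherianRing Γ(X, V.1) := IsLocallyNoetherian.component_noetherian V
  have hmax := (primes_spec (IP := Scheme.IdealSheafData.vanishingIdeal Z) (V := V) hfin'
    (isClosed_singleton_support (k := k) hfin')).2
  have hpr : ∀ q : PrimeSpectrum Γ(X, V.1), V.2.fromSpec q ∈ Z →
      (Scheme.IdealSheafData.vanishingIdeal Z).ideal V ≤ q.asIdeal := fun q hq c hc => (mem_vanishing c).1 hc q hq
  have hpt : ∀ z ∈ (Z : Set X), ∃ q : PrimeSpectrum Γ(X, V.1), V.2.fromSpec q = z := fun z hz => by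
    have : z ∈ Set.range V.2.fromSpec := by rw [V.2.range_fromSpec]; exact hZV hz
    exact this
  have hmemz : ∀ (σ : Coh.structureModule X ⟶ M) (c : Γ(X, V.1)), TMul.val σ V.1 = c • e →
      ∀ q : PrimeSpectrum Γ(X, V.1), (V.2.fromSpec q ∈ (PicF2.zeroScheme M σ).support ↔ c ∈ q.asIdeal) := by
    intro σ c hc q
    have hq : V.2.fromSpec q ∈ (V.1 : Set X) := V.2.range_fromSpec.subset ⟨q, rfl⟩
    have h1 := (PicF2.zeroScheme M σ).coe_support_inter V
    rw [← V.2.fromSpec_image_zeroLocus, ZeroSch.ideal_zeroScheme_eq_span σ hM V he hc] at h1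
    constructor
    · intro h
      obtain ⟨q', hq', he'⟩ := h1.subset ⟨h, hq⟩
      rw [← V.2.fromSpec.isOpenEmbedding.injective he']
      exact hq' (Ideal.mem_span_singleton_self c)
    · intro h
      exact (h1.ge ⟨q, (Ideal.span_singleton_le_iff_mem _).2 h, rfl⟩).1
  constructor
  · intro hCB z hz σ hσ
    obtain ⟨q, rfl⟩ := hpt z hz
    obtain ⟨c, hc⟩ := exists_coeff he (TMul.val σ ⊤)
    have hcv : TMul.val σ V.1 = c • e := (TMul.res_val σ (le_top : V.1 ≤ ⊤)).symm.trans hc
    by_contra hcq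
    rw [hmemz σ c hcv] at hcq
    have hIq := hpr q hz
    have hcI : c ∉ (Scheme.IdealSheafData.vanishingIdeal Z).ideal V := fun h => hcq (hIq h)
    have hkill : ∀ a ∈ q.asIdeal, a * c ∈ (Scheme.IdealSheafData.vanishingIdeal Z).ideal V := fun a ha =>
      (mem_vanishing _).2 fun q' hq' => by
        by_cases he' : q' = q
        · rw [he']; exact Ideal.mul_mem_right _ _ ha
        · exact Ideal.mul_mem_left _ _ ((hmemz σ c hcv q').1 (hσ _ hq' fun h =>
            he' (V.2.fromSpec.isOpenEmbedding.injective h)))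
    obtain ⟨K, hK, hKV⟩ := exists_ideal_extend (IP := Scheme.IdealSheafData.vanishingIdeal Z) (V := V)
      ((Scheme.IdealSheafData.vanishingIdeal Z).ideal V ⊔ Ideal.span {c}) le_sup_left
    have hcov := covBy_of_covBy hS hK (hKV.symm ▸ covBy_sup_span _ (hmax _ q.isPrime hIq) hkill hcI)
    have hzs := ZeroSch.ideal_zeroScheme_eq_span σ hM V he hcv
    exact hcI (hCB K hcov σ (le_of_ideal_le hS hK (by rw [hzs, hKV]; exact le_sup_right)) V
      (hzs ▸ Ideal.mem_span_singleton_self c))
  · intro h K hK σ hσ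
    obtain ⟨m, w, hm, hIm, hw, hwI, hKV⟩ := exists_socle_of_covBy (k := k) hfin' hS hK
    obtain ⟨c, hc⟩ := exists_coeff he (TMul.val σ ⊤)
    have hcv : TMul.val σ V.1 = c • e := (TMul.res_val σ (le_top : V.1 ≤ ⊤)).symm.trans hc
    have hzs := ZeroSch.ideal_zeroScheme_eq_span σ hM V he hcv
    have hcK : c ∈ K.ideal V := hσ V (hzs ▸ Ideal.mem_span_singleton_self c)
    refine le_of_ideal_le hS le_rfl ?_
    rw [hzs, Ideal.span_singleton_le_iff_mem, mem_vanishing]
    have hother : ∀ q' : PrimeSpectrum Γ(X, V.1), V.2.fromSpec q' ∈ Z → q'.asIdeal ≠ m → c ∈ q'.asIdeal := by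
      intro q' hq' hne
      have hle' : ¬ m ≤ q'.asIdeal := fun hle => hne (hm.eq_of_le q'.isPrime.ne_top hle).symm
      obtain ⟨a, ha, haq⟩ := SetLike.not_le_iff_exists.1 hle'
      have hwq : w ∈ q'.asIdeal := (q'.isPrime.mem_or_mem (hpr q' hq' (hw a ha))).resolve_left haq
      rw [hKV] at hcK
      obtain ⟨i, hi, y, hy, rfl⟩ := Submodule.mem_sup.1 hcK
      obtain ⟨d, rfl⟩ := Ideal.mem_span_singleton'.1 hy
      exact add_mem (hpr q' hq' hi) (Ideal.mul_mem_left _ _ hwq)
    intro q hq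
    by_cases hqm : q.asIdeal = m
    · refine (hmemz σ c hcv q).1 (h _ hq σ fun z' hz' hne => ?_)
      obtain ⟨q', rfl⟩ := hpt z' hz'
      refine (hmemz σ c hcv q').2 (hother q' hz' fun h' => hne ?_)
      rw [show q' = q from PrimeSpectrum.ext (h'.trans hqm.symm)]
    · exact hother q hq hqm

end Groth.Agent.CBSurf
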