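import Groth.Agent.CBSurf.Enlarge
import Groth.Agent.CBSurf.Reduced

/-!
# Ideals over the ideal of finitely many points
-/

set_option autoImplicit false
set_option backward.isDefEq.respectTransparency false
set_option backward.isDefEq.respectTransparency.types false
set_option linter.style.haveILetI false
set_option linter.unusedSectionVars false

universe u

open CategoryTheory CategoryTheory.Limits AlgebraicGeometry TopologicalSpace Opposite Abelian

noncomputable section

namespace Groth.Agent.CBSurf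

/-- an ideal over an intersection of finitely many maximal ideals is such an intersection -/
theorem mem_of_mem_maximals {A : Type*} [CommRing A] {I J : Ideal A} (hIJ : I ≤ J)
    (hI : ∀ c, (∀ p : Ideal A, p.IsPrime → I ≤ p → c ∈ p) → c ∈ I)
    (hfin : {p : Ideal A | p.IsPrime ∧ I ≤ p}.Finite)
    (hmax : ∀ p : Ideal A, p.IsPrime → I ≤ p → p.IsMaximal) {x : A}
    (hx : ∀ p : Ideal A, p.IsPrime → J ≤ p → x ∈ p) : x ∈ J := by
  classical
  let C : Ideal A :=
    { carrier := {a | a * x ∈ J}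
      zero_mem' := by simp
      add_mem' := fun {a b} ha hb => by simp only [Set.mem_setOf_eq, add_mul]; exact add_mem ha hb
      smul_mem' := fun c a ha => by simp only [Set.mem_setOf_eq, smul_eq_mul, mul_assoc]; exact J.mul_mem_left c ha }
  by_contra hxJ
  have hC : C ≠ ⊤ := fun h => hxJ (by simpa [C] using (Ideal.eq_top_iff_one C).1 h)
  obtain ⟨m, hm, hCm⟩ := Ideal.exists_le_maximal C hC
  have hJC : J ≤ C := fun a ha => J.mul_mem_right x ha
  have hxm := hx m hm.isPrime (hJC.trans hCm)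
  have hIm : I ≤ m := hIJ.trans (hJC.trans hCm)
  let S := hfin.toFinset.erase m
  have hout : ∀ p ∈ S, ∃ a ∈ p, a ∉ m := fun p hp => by
    obtain ⟨hne, hp'⟩ := Finset.mem_erase.1 hp
    obtain ⟨hpp, hIp⟩ := hfin.mem_toFinset.1 hp'
    exact SetLike.not_le_iff_exists.1 fun hle => hne ((hmax p hpp hIp).eq_of_le hm.ne_top hle)
  choose! a ha ham using hout
  let P := ∏ p ∈ S, a p
  have hP : P * x ∈ I := hI _ fun p hp hIp => by
    by_cases hpm : p = m
    · subst hpm; exact Ideal.mul_mem_left _ _ hxm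
    · have hpS : p ∈ S := Finset.mem_erase.2 ⟨hpm, hfin.mem_toFinset.2 ⟨hp, hIp⟩⟩
      refine Ideal.mul_mem_right _ _ ?_
      rw [show P = (∏ q ∈ S.erase p, a q) * a p from (Finset.prod_erase_mul S a hpS).symm]
      exact Ideal.mul_mem_left _ _ (ha p hpS)
  have hPm : P ∈ m.primeCompl := Submonoid.prod_mem _ fun p hp => ham p hp
  exact hPm (hCm (hIJ hP))

variable {X : Scheme.{u}}

theorem eq_vanishing_of_ge {k : Type u} [Field k] [IsAlgClosed k] [X.Over (Spec (CommRingCat.of k))]
    [IsProper (X ↘ Spec (CommRingCat.of k))] {Z : Closeds X} (hfin : (Z : Set X).Finite)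
    {K : X.IdealSheafData} (hK : Scheme.IdealSheafData.vanishingIdeal Z ≤ K) :
    K = Scheme.IdealSheafData.vanishingIdeal K.support := by
  refine le_antisymm (Scheme.IdealSheafData.le_support_iff_le_vanishingIdeal.1 le_rfl) fun W c hc => ?_
  have hcl := isClosed_singleton_support (k := k) (IP := Scheme.IdealSheafData.vanishingIdeal Z)
    (by rwa [Scheme.IdealSheafData.coe_support_vanishingIdeal])
  obtain ⟨hpf, hmax⟩ := primes_spec (IP := Scheme.IdealSheafData.vanishingIdeal Z) (V := W)
    (by rwa [Scheme.IdealSheafData.coe_support_vanishingIdeal]) hcl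
  refine mem_of_mem_maximals (hK W) (fun d hd => (mem_vanishing d).2 fun q hq => hd q.asIdeal q.isPrime
    fun e he => (mem_vanishing e).1 he q hq) hpf hmax fun p hp hKp => ?_
  refine (mem_vanishing c).1 hc ⟨p, hp⟩ ?_
  refine (show W.2.fromSpec ⟨p, hp⟩ ∈ (K.support : Set X) ∩ (W.1 : Set X) from ?_).1
  rw [K.coe_support_inter W, ← W.2.fromSpec_image_zeroLocus]
  exact ⟨⟨p, hp⟩, hKp, rfl⟩

variable {k : Type u} [Field k] [IsAlgClosed k] [X.Over (Spec (CommRingCat.of k))]
  [IsProper (X ↘ Spec (CommRingCat.of k))] [IsIntegral X] [Smooth (X ↘ Spec (CommRingCat.of k))]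
  (hdim : topologicalKrullDim X = 2) {M : X.Modules} (hM : PicF.IsInvertible M)
  [HasExt.{u} X.Modules]

include k hdim hM in
theorem bundle_iff_not_surjective (Z : Finset X) (hZc : IsClosed ((Z : Set X))) (hZ : ∀ z ∈ Z, IsClosed ({z} : Set X)) :
    (∃ (F : X.Modules) (a : M ⟶ F)
        (b : F ⟶ ClSub.idealMod (Scheme.IdealSheafData.vanishingIdeal ⟨(Z : Set X), hZc⟩)) (w : a ≫ b = 0),
        (ShortComplex.mk a b w).ShortExact ∧ FlatMod.IsFinLocFree F) ↔
      ∀ (Z' : Finset X) (hZ'c : IsClosed ((Z' : Set X))), Z' ⊂ Z →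
        ∀ φ : ClSub.idealMod (Scheme.IdealSheafData.vanishingIdeal ⟨(Z : Set X), hZc⟩) ⟶
            ClSub.idealMod (Scheme.IdealSheafData.vanishingIdeal ⟨(Z' : Set X), hZ'c⟩),
          φ ≫ ClSub.idealModι (Scheme.IdealSheafData.vanishingIdeal ⟨(Z' : Set X), hZ'c⟩) =
              ClSub.idealModι (Scheme.IdealSheafData.vanishingIdeal ⟨(Z : Set X), hZc⟩) →
            ¬ Function.Surjective ((Abelian.Ext.mk₀ φ).precomp M (zero_add 1)) := by
  classical
  haveI := CurveRR.isNoetherian_of_proper k X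
  haveI := SerrePn.enoughInjectives (X := X)
  let I := Scheme.IdealSheafData.vanishingIdeal (⟨(Z : Set X), hZc⟩ : Closeds X)
  have hsupp : (I.support : Set X) = Z := Scheme.IdealSheafData.coe_support_vanishingIdeal _
  have hfin : (I.support : Set X).Finite := hsupp ▸ Z.finite_toSet
  constructor
  · rintro ⟨F, a, b, w, hS, hF⟩ Z' hZ'c hsub φ hφ hsurj
    obtain ⟨y, hy⟩ := hsurj hS.extClass
    obtain ⟨F', a', b', w', hS', rfl⟩ := StabK3.exists_extension y
    obtain ⟨wV, hV⟩ := StabK3.shortExact_pullback hS' φ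
    let φ₀ : ShortComplex.mk _ _ wV ⟶ ShortComplex.mk a' b' w' :=
      { τ₁ := 𝟙 M, τ₂ := pullback.fst b' φ, τ₃ := φ
        comm₁₂ := by simp
        comm₂₃ := pullback.condition }
    have hnat := ShortComplex.ShortExact.extClass_naturality hV hS' φ₀
    obtain ⟨u, -, hu₁, hu₂⟩ := CGrpExt.exists_iso_of_extClass_eq a b _ _ hS hV
      (hy.symm.trans (hnat.symm.trans (Ext.comp_mk₀_id _)))
    refine not_locFree_of_enlarge (k := k) hdim hM hfin hS hS' hφ (g := u ≫ pullback.fst b' φ)
      (by rw [← Category.assoc, hu₁, pullback.lift_fst])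
      (by rw [Category.assoc, pullback.condition, ← Category.assoc, hu₂])
      (lt_of_le_of_ne (le_of_comp_ι φ hφ) fun h => hsub.ne ?_) hF
    have h1 := congrArg (fun J : X.IdealSheafData => (J.support : Set X)) h
    simp only [Scheme.IdealSheafData.coe_support_vanishingIdeal] at h1
    exact (Finset.coe_injective h1).symm
  · intro h
    let P := {Z' : Finset X // Z' ⊂ Z}
    haveI : Finite P := Set.Finite.to_subtype (s := {Z' : Finset X | Z' ⊂ Z})
      (Z.powerset.finite_toSet.subset fun Z' hZ' => Finset.mem_coe.2 (Finset.mem_powerset.2 hZ'.subset))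
    have hc : ∀ p : P, IsClosed ((p.1 : Finset X) : Set X) := fun p => by
      rw [← Set.biUnion_of_singleton (p.1 : Set X)]
      exact p.1.finite_toSet.isClosed_biUnion fun y hy => hZ y (p.2.subset hy)
    have hle : ∀ p : P, I ≤ Scheme.IdealSheafData.vanishingIdeal ⟨(p.1 : Set X), hc p⟩ := fun p =>
      Scheme.IdealSheafData.vanishingIdeal_antimono (show (p.1 : Set X) ⊆ Z from Finset.coe_subset.2 p.2.subset)
    let W : P → Submodule k (Ext (ClSub.idealMod I) M 1) := fun p =>
      LinearMap.range ((Ext.mk₀ (idealInc (hle p))).precompOfLinear k M (zero_add 1))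
    have hW : ⋃ p, (W p : Set (Ext (ClSub.idealMod I) M 1)) ≠ Set.univ := fun hcov => by
      obtain ⟨p, hp⟩ := Subspace.exists_eq_top_of_iUnion_eq_univ hcov
      exact h p.1 (hc p) p.2 (idealInc (hle p)) (idealInc_ι _) (LinearMap.range_eq_top.1 hp)
    obtain ⟨ξ, hξ⟩ := (Set.ne_univ_iff_exists_notMem _).1 hW
    obtain ⟨F, a, b, w, hS, rfl⟩ := StabK3.exists_extension ξ
    refine ⟨F, a, b, w, hS, by_contra fun hF => ?_⟩
    obtain ⟨I', φ, hlt, hφ, y, hy⟩ := exists_enlarge_class (k := k) hdim hM hS hF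
    obtain ⟨Z', hZ'⟩ : ∃ Z' : Finset X, (Z' : Set X) = (I'.support : Set X) :=
      ⟨(hfin.subset (Scheme.IdealSheafData.support_antitone hlt.le)).toFinset, Set.Finite.coe_toFinset _⟩
    have hI' : I' = Scheme.IdealSheafData.vanishingIdeal I'.support :=
      eq_vanishing_of_ge (k := k) (Z := ⟨(Z : Set X), hZc⟩) Z.finite_toSet hlt.le
    have hsub : Z' ⊂ Z := by
      refine Finset.ssubset_iff_subset_ne.2 ⟨fun x hx => ?_, fun he => hlt.ne ?_⟩
      · have h1 : x ∈ (I'.support : Set X) := hZ' ▸ Finset.mem_coe.2 hx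
        exact Finset.mem_coe.1 (hsupp ▸ (Scheme.IdealSheafData.support_antitone hlt.le h1 : x ∈ (I.support : Set X)))
      · rw [hI']
        refine congrArg Scheme.IdealSheafData.vanishingIdeal (SetLike.coe_injective ?_)
        show (Z : Set X) = _
        rw [← hZ', he]
    let p : P := ⟨Z', hsub⟩
    obtain rfl : I' = Scheme.IdealSheafData.vanishingIdeal ⟨(p.1 : Set X), hc p⟩ :=
      hI'.trans (congrArg Scheme.IdealSheafData.vanishingIdeal (SetLike.coe_injective hZ'.symm))
    refine hξ (Set.mem_iUnion.2 ⟨p, y, ?_⟩)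
    rw [show idealInc (hle p) = φ from (cancel_mono (ClSub.idealModι _)).1 ((idealInc_ι _).trans hφ.symm)]
    exact hy

end Groth.Agent.CBSurf
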