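import Groth.Agent.CBSurf.Quot

/-!
# Extensions of a point module by the twisted ideal form at most a line
-/

set_option autoImplicit false
set_option backward.isDefEq.respectTransparency false
set_option backward.isDefEq.respectTransparency.types false
set_option linter.style.haveILetI false
set_option linter.unusedSectionVars false
set_option maxHeartbeats 800000

universe u

open CategoryTheory CategoryTheory.Limits AlgebraicGeometry TopologicalSpace Opposite Abelian
open Groth.Agent.QC (res resO res_res res_self res_smul resO_resO app_res section_eq_of_locally)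
open Groth.Agent.CurveRR (idealIncl secMod)
open Groth.Agent.CohFinite (tmap)
open TMul (IsGen tm)

noncomputable section

namespace Groth.Agent.CBSurf

attribute [local instance] CurveRR.secMod valg

variable {k : Type u} [Field k] [IsAlgClosed k] {X : Scheme.{u}} [X.Over (Spec (CommRingCat.of k))]
  [IsProper (X ↘ Spec (CommRingCat.of k))] [IsIntegral X] [Smooth (X ↘ Spec (CommRingCat.of k))]
  (hdim : topologicalKrullDim X = 2) {ω : X.Modules}
  (hω : ExtPow.IsExtPow 2 (Omega.sheaf (X ↘ Spec (CommRingCat.of k))) ω)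
  {IP : X.IdealSheafData} {V : X.affineOpens} {M : X.Modules} {e : Γ(M, V.1)}
  (hfin : (IP.support : Set X).Finite) (hS : (IP.support : Set X) ⊆ (V.1 : Set X))
  (hM : PicF.IsInvertible M) (he : IsGen e) {m : Ideal Γ(X, V.1)} (hm : m.IsMaximal) (hIm : IP.ideal V ≤ m)
  (hsoc : SocAt (IP.ideal V) m)
  {G : X.Modules} (hG : Coh.IsCoh G) (hsupp : CohB1.support G ⊆ (IP.support : Set X))
  {r : Γ(G, V.1)} (hkill : ∀ a ∈ m, a • r = 0) (hdet : ∀ {Q : X.Modules} (f : G ⟶ Q), f.app V.1 r = 0 → f = 0)
  [HasExt.{u} X.Modules]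

include hfin hS hM he hm hIm hsoc hkill hdet in
theorem hom_line {f : G ⟶ CohB1.tensorMod (ClSub.quotMod IP) M} (hf : f ≠ 0)
    (g : G ⟶ CohB1.tensorMod (ClSub.quotMod IP) M) : ∃ c : k, g = c • f := by
  haveI := CurveRR.isNoetherian_of_proper k X
  let q : Γ(X, V.1) → Γ(CohB1.tensorMod (ClSub.quotMod IP) M, V.1) := fun a =>
    (tmap (ClSub.toSubscheme IP) M).app V.1 (tm (M := Coh.structureModule X) a e)
  have hq0 : ∀ a, q a = 0 ↔ a ∈ IP.ideal V := by
    intro a
    constructor
    · intro h
      obtain ⟨u, hu⟩ := Groth.Agent.SiteCoh.sections_exact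
        (CohFinite.shortExact_toAb (CohFinite.shortExact_tmap hM (CurveRR.ideal_shortExact IP))) V.1 _ h
      obtain ⟨b, hb, hub⟩ := exists_coeff_mem he u
      have : a • e = b • e := by
        rw [← hub]
        show _ = (TMul.leftUnitIso M).hom.app V.1 ((tmap (ClSub.idealModι IP) M).app V.1 u)
        rw [show (tmap (ClSub.idealModι IP) M).app V.1 u = tm (M := Coh.structureModule X) a e from hu,
          CurveRR.leftUnitIso_tm]
      have hab : a = b := (he V.1 le_rfl).1 (by simpa [res_self] using this)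
      exact hab ▸ hb
    · intro h
      show (tmap (ClSub.toSubscheme IP) M).app V.1 (tm a e) = 0
      rw [CohFinite.tmap_tm]
      have hz : (ClSub.toSubscheme IP).app V.1 a = 0 := by
        rw [← IP.ker_subschemeι_app, RingHom.mem_ker] at h
        exact h
      rw [hz]
      exact TMul.zero_tm _
  have hqs : ∀ b a : Γ(X, V.1), q (b * a) = b • q a := fun b a => by
    show (tmap (ClSub.toSubscheme IP) M).app V.1 (tm (M := Coh.structureModule X) (b * a) e) = _
    rw [show tm (M := Coh.structureModule X) (b * a) e = b • tm (M := Coh.structureModule X) a e from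
      TMul.smul_tm b (show Γ(Coh.structureModule X, V.1) from a) e, TMul.app_smul]
  have hqsub : ∀ b a : Γ(X, V.1), q (b - a) = q b - q a := fun b a => by
    show (tmap (ClSub.toSubscheme IP) M).app V.1 (tm (M := Coh.structureModule X) (b - a) e) = _
    rw [show tm (M := Coh.structureModule X) (b - a) e =
      tm (M := Coh.structureModule X) b e - tm (M := Coh.structureModule X) a e from
        TMul.sub_tm (show Γ(Coh.structureModule X, V.1) from b) (show Γ(Coh.structureModule X, V.1) from a) e, map_sub]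
  have hval : ∀ h : G ⟶ CohB1.tensorMod (ClSub.quotMod IP) M,
      ∃ a, h.app V.1 r = q a ∧ ∀ b ∈ m, b * a ∈ IP.ideal V := fun h => by
    haveI : Epi (tmap (ClSub.toSubscheme IP) M) :=
      (CohFinite.shortExact_tmap hM (CurveRR.ideal_shortExact IP)).epi_g
    have hMc : Coh.IsCoh M := CurveRR.isCoh_of_rank (CurveRR.isFinLocFreeOfRank_one hM)
    obtain ⟨w, hw⟩ := QC.app_surjective_of_epi V.2
      (CurveRR.isCoh_tensor' RefStalk.isCoh_structureModule hMc).1
      (CurveRR.isCoh_tensor' (CurveRR.isCoh_idealMod IP).2 hMc).1 (tmap (ClSub.toSubscheme IP) M) (h.app V.1 r)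
    obtain ⟨a, rfl⟩ := (TMul.tm_bijective (M := Coh.structureModule X) he V.1 le_rfl).2 w
    have hha : h.app V.1 r = q a := by
      rw [← hw]
      show (tmap (ClSub.toSubscheme IP) M).app V.1 (tm a (res M le_rfl e)) = _
      rw [res_self]
    refine ⟨a, hha, fun b hb => (hq0 _).1 ?_⟩
    rw [hqs, ← hha, ← TMul.app_smul, hkill b hb, map_zero]
  obtain ⟨a, ha, ham⟩ := hval f
  obtain ⟨b, hb, hbm⟩ := hval g
  have haI : a ∉ IP.ideal V := fun h => hf (hdet f (ha.trans ((hq0 a).2 h)))
  obtain ⟨c, hc⟩ := hsoc a b ham hbm haI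
  obtain ⟨l, hl⟩ := exists_const (k := k) hfin hS hm hIm c
  refine ⟨l, sub_eq_zero.1 (hdet (g - l • f) ?_)⟩
  have h1 : (l • f).app V.1 r = CurveRR.cst k X V.1 l • f.app V.1 r := by
    rw [KLin.smul_app_apply]
    rfl
  rw [Scheme.Modules.Hom.sub_app]
  show g.app V.1 r - (l • f).app V.1 r = 0
  rw [h1, hb, ha, ← hqs, ← hqsub, hq0,
    show b - CurveRR.cst k X V.1 l * a = (b - c * a) + (c - CurveRR.cst k X V.1 l) * a by ring]
  exact add_mem hc (ham _ hl)

include hdim hω hfin hS hM he hm hIm hsoc hG hsupp hkill hdet in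
/-- Any nonzero extension spans. -/
theorem ext_line {η : Ext G (CohB1.tensorMod (ClSub.idealMod IP) M) 1} (hη : η ≠ 0)
    (η' : Ext G (CohB1.tensorMod (ClSub.idealMod IP) M) 1) : ∃ c : k, η' = c • η := by
  haveI := CurveRR.isNoetherian_of_proper k X
  have hcl := isClosed_singleton_support (k := k) hfin
  have hd : topologicalKrullDim (IP.support : Set X) ≤ 0 := by
    haveI : Finite (IP.support : Set X) := hfin.to_subtype
    haveI : T1Space (IP.support : Set X) := t1Space_iff_exists_open.2 fun a b hab =>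
      ⟨Subtype.val ⁻¹' ({b.1}ᶜ : Set X), (hcl b.1 b.2).isOpen_compl.preimage continuous_subtype_val,
        fun h => hab (Subtype.ext h), fun h => h rfl⟩
    exact topologicalKrullDim_zero_of_discreteTopology _
  have hSe := CohFinite.shortExact_tmap hM (CurveRR.ideal_shortExact IP)
  haveI := subsingleton_ext_supported k hdim hω hG IP.support.isClosed hd hsupp
    (TMul.isInvertible_tensorMod (PicLoc.isInvertible_structureModule X) hM) 1 (by omega)
  obtain ⟨y, hy⟩ := Ext.covariant_sequence_exact₁ G hSe η (Subsingleton.elim _ _) (zero_add 1)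
  obtain ⟨f, rfl⟩ := (Ext.mk₀_bijective _ _).2 y
  obtain ⟨y', hy'⟩ := Ext.covariant_sequence_exact₁ G hSe η' (Subsingleton.elim _ _) (zero_add 1)
  obtain ⟨g, rfl⟩ := (Ext.mk₀_bijective _ _).2 y'
  have hf : f ≠ 0 := by
    rintro rfl
    exact hη (by rw [← hy, Ext.mk₀_zero, Ext.zero_comp])
  obtain ⟨c, rfl⟩ := hom_line (k := k) hfin hS hM he hm hIm hsoc hkill hdet hf g
  exact ⟨c, by rw [← hy', ← hy, ← Ext.smul_comp, Ext.mk₀_smul]⟩

end Groth.Agent.CBSurf
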