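import Groth.Agent.CBSurf.Main
import Groth.Agent.ExtFund.SmoothPn
import Groth.Agent.ExtFund.Smooth
import Groth.Agent.ExtFund.Surface
import Groth.Agent.PicPn.Main
import Groth.Agent.SectCartier.Basic
import Groth.Agent.HodgeCI.CIFacts
import Groth.Agent.HodgeCI.Hirzebruch
import Groth.Agent.SurfRR.Components
import Groth.Agent.StabK3.Euler
import Groth.Agent.S4466
import Groth.Agent.S8914

/-!
# The canonical module of a smooth surface in projective three-space
-/

set_option autoImplicit false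
set_option backward.isDefEq.respectTransparency false
set_option backward.isDefEq.respectTransparency.types false
set_option linter.style.haveILetI false
set_option linter.unusedSectionVars false
set_option maxHeartbeats 1000000

universe u

open CategoryTheory CategoryTheory.Limits AlgebraicGeometry TopologicalSpace Opposite
open Groth.Agent.SGA6Ext
open Groth.Agent.HodgeCI (tw)

noncomputable section

namespace Groth.Agent.CBSurf

/-- the ideal of a regular closed immersion of codimension one is effective Cartier -/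
theorem isEffCartierIdeal_of_regular_one {P Y : Scheme.{u}} (i : Y ⟶ P) [IsClosedImmersion i]
    (h : RegImm.IsRegularImmersionOfCodim RegImm.Kind.regular 1 i) : BlowUp.IsEffCartierIdeal i.ker := by
  intro x
  by_cases hx : x ∈ Set.range i
  · obtain ⟨z, rfl⟩ := hx
    obtain ⟨U, hzU, -, rs, hlen, hseq, hker⟩ := h.2 z
    obtain ⟨r, rfl⟩ := List.length_eq_one_iff.1 hlen
    refine ⟨U, hzU, r, ?_, ?_⟩
    · have h1 := ((RingTheory.Sequence.isWeaklyRegular_cons_iff _ r []).1
        (RingTheory.Sequence.IsRegular.toIsWeaklyRegular hseq)).1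
      exact mem_nonZeroDivisors_iff_right.2 fun y hy => h1 (by simpa [mul_comm] using hy)
    · rw [i.ker_apply, hker]
      simp [Ideal.ofList]
  · obtain ⟨U, hxU, hU⟩ := SectCartier.isUnit_one_of_notMem i hx
    exact ⟨U, hxU, 1, one_mem _, hU⟩

/-- six times the binomial coefficient `(a+3 choose 3)` -/
theorem six_choose (a : ℤ) : 6 * Ring.choose (a + 3) 3 = (a + 3) * (a + 2) * (a + 1) := by
  have h := Ring.descPochhammer_eq_factorial_smul_choose (R := ℤ) (a + 3) 3
  have h2 : ∀ b : ℤ, (2 : Polynomial ℤ).smeval b = 2 := fun b => by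
    rw [show (2 : Polynomial ℤ) = ((2 : ℕ) : Polynomial ℤ) from rfl, Polynomial.smeval_natCast]
    simp
  simp [descPochhammer_succ_right, Polynomial.smeval_X, Polynomial.smeval_sub, Polynomial.smeval_mul,
    Polynomial.smeval_one, h2, Nat.factorial] at h
  rw [← h]
  ring

variable {k : Type u} [Field k]

/-- `χ(O(a))` on projective three-space -/
theorem euler_twist_three (a : ℤ) :
    @Curv2.euler k _ (CohB1.ProjSpace 3 k) ⟨CohB1.ProjSpace.toSpec 3 k⟩ (Twist.twistProjSpace 3 k a) =
      Ring.choose (a + 3) 3 := by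
  have h := Groth.Agent.S4466.result k 3 (by norm_num) a
  refine Eq.trans ?_ h
  refine finsum_eq_sum_of_support_subset _ fun j hj => ?_
  by_contra hlt
  simp only [Finset.coe_range, Set.mem_Iio] at hlt
  haveI := Groth.Agent.ProjCech.twist_vanish (R := k) 3 a j (by omega) (by omega)
  exact hj (by simp only [Module.finrank_zero_of_subsingleton, Nat.cast_zero, mul_zero])

variable {X : Scheme.{u}} [X.Over (Spec (CommRingCat.of k))] [SmoothOfRelativeDimension 2 (X ↘ Spec (CommRingCat.of k))]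
  [IsProper (X ↘ Spec (CommRingCat.of k))]
  (ι : X ⟶ CohB1.ProjSpace 3 k) [IsClosedImmersion ι]
  (hι : ι ≫ CohB1.ProjSpace.toSpec 3 k = X ↘ Spec (CommRingCat.of k))

include hι in
/-- the ideal of a smooth surface in space is some `O(j)` -/
theorem exists_ideal_iso : ∃ j : ℤ, Nonempty (ClSub.idealMod ι.ker ≅ Twist.twistProjSpace 3 k j) := by
  haveI := CohFinite.isNoetherian_projSpace 3 k
  haveI := ExtFund.smoothOfRelativeDimension_projSpace (k := k) 3
  haveI : SmoothOfRelativeDimension 2 (ι ≫ CohB1.ProjSpace.toSpec 3 k) := by rw [hι]; infer_instance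
  have hreg := ExtFund.isRegularImmersion_of_smooth (CohB1.ProjSpace.toSpec 3 k) ι 3 2
  have hI : PicF.IsInvertible (ClSub.idealMod ι.ker) :=
    (Groth.Agent.S8914.result _).2 (isEffCartierIdeal_of_regular_one ι hreg)
  exact PicPn.exists_iso_any _ hI

include hι in
/-- adjunction -/
theorem omega_iso_of_ideal {j : ℤ} (e : ClSub.idealMod ι.ker ≅ Twist.twistProjSpace 3 k j) {ω : X.Modules}
    (hω : ExtPow.IsExtPow 2 (Omega.sheaf (X ↘ Spec (CommRingCat.of k))) ω) :
    Nonempty (ω ≅ tw ι (-j - 4)) := by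
  haveI := CohFinite.isNoetherian_projSpace 3 k
  haveI := ExtFund.smoothOfRelativeDimension_projSpace (k := k) 3
  haveI : IsProper (CohB1.ProjSpace.toSpec 3 k) := ProjMor.isProper_toSpec 3 k
  haveI : SmoothOfRelativeDimension 2 (ι ≫ CohB1.ProjSpace.toSpec 3 k) := by rw [hι]; infer_instance
  obtain ⟨ωP, -, hωP⟩ := SGA6Ext.exists_extPow 3 (Omega.sheaf (CohB1.ProjSpace.toSpec 3 k))
    (fun x => ⟨_, _, (ExtFund.isFinLocFreeOfRank_omega (CohB1.ProjSpace.toSpec 3 k) 3 x).choose_spec.1,
      (ExtFund.isFinLocFreeOfRank_omega (CohB1.ProjSpace.toSpec 3 k) 3 x).choose_spec.2⟩)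
  obtain ⟨w⟩ := ExtFund.nonempty_top_projSpace (k := k) 3 hωP
  obtain ⟨a⟩ := ExtFund.nonempty_adjunction (CohB1.ProjSpace.toSpec 3 k) ι 3 2 1 rfl hωP (ωY := ω)
    (by rw [hι]; exact hω) (SGA6Ext.isExtPow_one (Omega.conormal ι))
  let c : Omega.conormal ι ≅ tw ι j := (Scheme.Modules.pullback ι).mapIso e
  let b : tw ι (-4) ≅ CohB1.tensorMod ω (tw ι j) :=
    (Scheme.Modules.pullback ι).mapIso w.symm ≪≫ a ≪≫ PicGrp.tensorModIso (Iso.refl ω) c
  obtain ⟨t⟩ := HodgeCI.nonempty_tw_add ι (-j) j 0 (by ring)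
  obtain ⟨z⟩ := HodgeCI.nonempty_tw_zero ι
  obtain ⟨s⟩ := HodgeCI.nonempty_tw_add ι (-j) (-4) (-j - 4) (by ring)
  exact ⟨(SecTwist.unitorR ω).symm ≪≫ PicGrp.tensorModIso (Iso.refl ω) (t ≪≫ z).symm ≪≫
    (TMul.assocIso _ _ _).symm ≪≫ PicGrp.tensorModIso b.symm (Iso.refl _) ≪≫ s⟩

include hι in
/-- Euler characteristics of the twists on the surface -/
theorem euler_tw {j : ℤ} (e : ClSub.idealMod ι.ker ≅ Twist.twistProjSpace 3 k j) (a : ℤ) :
    Curv2.euler k X (tw ι a) = Ring.choose (a + 3) 3 - Ring.choose (a + j + 3) 3 := by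
  letI : (CohB1.ProjSpace 3 k).Over (Spec (CommRingCat.of k)) := ⟨CohB1.ProjSpace.toSpec 3 k⟩
  haveI : IsProper (CohB1.ProjSpace 3 k ↘ Spec (CommRingCat.of k)) := ProjMor.isProper_toSpec 3 k
  haveI := CurveRR.isNoetherian_of_proper k (CohB1.ProjSpace 3 k)
  have hT : FlatMod.IsFinLocFree (Twist.twistProjSpace 3 k a) :=
    SGA6Ext.finLocFree_of_rank (CurveRR.isFinLocFreeOfRank_one
      (GrT.isInvertible_twist_of_gens (PlaneCurve.hasFracGens _)))
  have h := HodgeCI.euler_tensor_add (k := k) hT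
    (ShortComplex.mk (ClSub.idealModι ι.ker) (ClSub.toSubscheme ι.ker) (kernel.condition _))
    (CurveRR.ideal_shortExact ι.ker) (CurveRR.isCoh_idealMod ι.ker).1
    (FreeLite.isCoh (ResDesc.isFinLocFree_structureModule _)) (CurveRR.isCoh_idealMod ι.ker).2
  dsimp only at h
  rw [CurveRR.euler_eq_of_iso (k := k) (TMul.leftUnitIso (Twist.twistProjSpace 3 k a))] at h
  obtain ⟨t⟩ := GrT.nonempty_twist_tensor_iso (CohB1.polyGrading 3 k) (a := a) (b := j) (c := a + j)
    (PlaneCurve.hasFracGens _) rfl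
  rw [CurveRR.euler_eq_of_iso (k := k) (PicGrp.tensorModIso e (Iso.refl _) ≪≫ t :
      CohB1.tensorMod (ClSub.idealMod ι.ker) (Twist.twistProjSpace 3 k a) ≅ Twist.twistProjSpace 3 k (a + j))] at h
  have hq := StabK3.euler_quot_bundle k ι hι hT
  have h1 := euler_twist_three (k := k) a
  have h2 := euler_twist_three (k := k) (a + j)
  show Curv2.euler k X ((Scheme.Modules.pullback ι).obj (Twist.twistProjSpace 3 k a)) = _
  rw [← hq]
  linarith

include hι in
/-- the degree is minus the degree of the ideal -/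
theorem deg_eq {j : ℤ} (e : ClSub.idealMod ι.ker ≅ Twist.twistProjSpace 3 k j)
    (hdim : topologicalKrullDim X = 2) :
    FGA.intNum k X 2 ![tw ι (-1), tw ι (-1)] (Coh.structureModule X) = -j := by
  haveI : Smooth (X ↘ Spec (CommRingCat.of k)) := SmoothOfRelativeDimension.smooth 2 _
  rw [SurfRR.intNum_two (k := k) (by rw [hdim]; rfl)]
  obtain ⟨z⟩ := HodgeCI.nonempty_tw_zero ι
  obtain ⟨t⟩ := HodgeCI.nonempty_tw_add ι (-1) (-1) (-2) (by norm_num)
  rw [← CurveRR.euler_eq_of_iso (k := k) z, CurveRR.euler_eq_of_iso (k := k) t,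
    euler_tw ι hι e, euler_tw ι hι e, euler_tw ι hι e]
  have a0 := six_choose 0
  have a1 := six_choose (-1)
  have a2 := six_choose (-2)
  have b0 := six_choose (0 + j)
  have b1 := six_choose (-1 + j)
  have b2 := six_choose (-2 + j)
  ring_nf at *
  linarith

end Groth.Agent.CBSurf
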