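import Groth.Agent.CBSurf.Duality
import Groth.Agent.ExtShX.Global
import Groth.Agent.ExtShX.DepthCrit
import Groth.Agent.AmpleEmb.Criterion
import Groth.Agent.CurveRR.Deg

/-!
# Point sheaves and the depth criterion for local freeness
-/

set_option autoImplicit false
set_option backward.isDefEq.respectTransparency false
set_option backward.isDefEq.respectTransparency.types false
set_option linter.style.haveILetI false
set_option linter.unusedSectionVars false

universe u

open CategoryTheory CategoryTheory.Limits AlgebraicGeometry TopologicalSpace Abelian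

noncomputable section

namespace Groth.Agent.CBSurf

variable {k : Type u} [Field k] {X : Scheme.{u}} [X.Over (Spec (CommRingCat.of k))]
  [IsProper (X ↘ Spec (CommRingCat.of k))]

include k in
/-- A map out of a module with finite support vanishing on global sections is zero. -/
theorem eq_zero_of_top {G Q : X.Modules} (d : G ⟶ Q) {S : Set X} (hS : IsClosed S)
    (hd : topologicalKrullDim S ≤ 0) (hsupp : CohB1.support G ⊆ S) (h : ∀ s, d.app ⊤ s = 0) : d = 0 := by
  haveI := CurveRR.isNoetherian_of_proper k X
  refine Scheme.Modules.hom_ext _ _ fun U => ?_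
  ext s
  obtain ⟨a, ha⟩ := SuppZero.exists_extend_global G
    (fun T hT => SuppZero.isClosed_of_subset hS hd T (hT.trans hsupp)) U s
  show d.app U s = 0
  rw [show s = QC.res G le_top a from ha.symm, ← QC.app_res, h, map_zero]

include k in
/-- The stalk at `z` is free when there are no extensions in degree at most one from a point module. -/
theorem free_stalk_of_ext [HasExt.{u} X.Modules] {E G : X.Modules} (hE : Coh.IsCoh E) (hG : Coh.IsCoh G)
    {z : X} (hz : IsClosed ({z} : Set X)) (hG0 : ¬ IsZero G) (hsupp : CohB1.support G ⊆ {z})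
    (hreg : IsRegularLocalRing (X.presheaf.stalk z)) (hdim : ringKrullDim (X.presheaf.stalk z) = (2 : ℕ))
    (h : ∀ j < 2, Subsingleton (Ext G E j)) : Module.Free (X.presheaf.stalk z) (E.presheaf.stalk z) := by
  classical
  haveI := CurveRR.isNoetherian_of_proper k X
  haveI := SerrePn.enoughInjectives (X := X)
  have hd : topologicalKrullDim ({z} : Set X) ≤ 0 := topologicalKrullDim_zero_of_discreteTopology _
  have hoff : ∀ q y, y ∉ ({z} : Set X) → y ∉ CohB1.support ((ExtShX.R G q).obj E) := fun q y hy hy' => by
    obtain ⟨e⟩ := ExtShX.nonempty_stalk_R G hG y q E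
    haveI : Subsingleton ((DerSch.stalkFunctor X y).obj G) := not_not.1 fun hs => hy (hsupp hs)
    haveI : Subsingleton (Ext ((DerSch.stalkFunctor X y).obj G) ((DerSch.stalkFunctor X y).obj E) q) :=
      subsingleton_of_forall_eq 0 fun x => by
        rw [← Ext.mk₀_id_comp x, (ModuleCat.isZero_of_subsingleton ((DerSch.stalkFunctor X y).obj G)).eq_of_src
          (𝟙 _) 0, Ext.mk₀_zero, Ext.zero_comp]
    exact hy' e.toLinearEquiv.toEquiv.subsingleton
  have hlocal : ∀ j < 2, Subsingleton (Ext (ModuleCat.of (X.presheaf.stalk z) (G.presheaf.stalk z))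
      (ModuleCat.of (X.presheaf.stalk z) (E.presheaf.stalk z)) j) := fun j hj => by
    obtain ⟨e⟩ := ExtShX.ext_equiv_h0 (X := X) k G j E fun q _ p =>
      SuppZero.subsingleton_hh_of_supported hz hd _ (hoff q) (p + 1) (by omega)
    haveI := h j hj
    have hzero : IsZero ((ExtShX.R G j).obj E) := by
      letI := CurveRR.secMod k ((ExtShX.R G j).obj E) ⊤
      exact CurveRR.isZero_of_h0 (k := k) hz hd (fun y hy => not_not.1 fun hy' => hoff j y hy' hy)
        (((CurveRR.secH0 (k := k) _).trans e.symm).injective.subsingleton)
    obtain ⟨e'⟩ := ExtShX.nonempty_stalk_R G hG z j E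
    haveI := ExtShX.subsingleton_stalk_of_isZero hzero z
    exact e'.toLinearEquiv.symm.toEquiv.subsingleton
  haveI := RegDual.finite_stalk hG z
  haveI := RegDual.finite_stalk hE z
  haveI : Nontrivial (G.presheaf.stalk z) := by
    by_contra hn
    haveI := not_nontrivial_iff_subsingleton.1 hn
    refine hG0 (W7Baer.isZero_of_stalks (X := X) _ fun y => ?_)
    by_cases hy : y = z
    · subst hy
      haveI : Subsingleton ((DerSch.stalkFunctor X y).obj G) := ‹Subsingleton (G.presheaf.stalk y)›
      exact ModuleCat.isZero_of_subsingleton _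
    · haveI : Subsingleton ((DerSch.stalkFunctor X y).obj G) := not_not.1 fun hs => hy (hsupp hs)
      exact ModuleCat.isZero_of_subsingleton _
  exact AmpleEmb.free_of_depth_ge 2 hdim _ (ExtShX.le_depth_of_ext (G.presheaf.stalk z) (E.presheaf.stalk z) 2 hlocal)

end Groth.Agent.CBSurf
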