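import Groth.Agent.CBSurf.Sect
import Groth.Agent.Intersect.Hyper
import Groth.Agent.Intersect.ProperInt
import Groth.Agent.SerrePn.ClosedDual
import Groth.Agent.ExtFund.SmoothDual
import Groth.Agent.HilbArt.Poly

/-!
# Surfaces in projective space: the data for the Cayley–Bacharach arguments
-/

set_option autoImplicit false
set_option backward.isDefEq.respectTransparency false
set_option backward.isDefEq.respectTransparency.types false
set_option linter.style.haveILetI false
set_option linter.unusedSectionVars false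

universe u

open CategoryTheory CategoryTheory.Limits AlgebraicGeometry TopologicalSpace Opposite
open Groth.Agent.QC (res)
open TMul (IsGen tm)

noncomputable section

namespace Groth.Agent.CBSurf

variable {k : Type u} [Field k] {X : Scheme.{u}} [X.Over (Spec (CommRingCat.of k))]

theorem isClosed_singleton_support [IsProper (X ↘ Spec (CommRingCat.of k))] {IP : X.IdealSheafData}
    (hfin : (IP.support : Set X).Finite) (z : X) (hz : z ∈ (IP.support : Set X)) : IsClosed ({z} : Set X) := by
  haveI : JacobsonSpace X := LocallyOfFiniteType.jacobsonSpace (X ↘ Spec (CommRingCat.of k))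
  exact Intersect.isClosed_singleton_of_finite IP.support.isClosed hfin hz

theorem regular_dim_two [Smooth (X ↘ Spec (CommRingCat.of k))] [IrreducibleSpace X]
    (hdim : topologicalKrullDim X = 2) {z : X} (hz : IsClosed ({z} : Set X)) :
    IsRegularLocalRing (X.presheaf.stalk z) ∧ ringKrullDim (X.presheaf.stalk z) = (2 : ℕ) := by
  refine ⟨GeomProp.regular_stalk_of_mem_smoothLocus (X ↘ Spec (CommRingCat.of k)) ?_,
    SerrePn.ringKrullDim_stalk_of_equidim (X ↘ Spec (CommRingCat.of k)) 2 (by simpa using hdim) (fun Z hZ => ?_) z hz⟩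
  · rw [Scheme.Hom.smoothLocus_eq_top_iff.2 inferInstance]
    trivial
  · rw [irreducibleComponents_eq_singleton, Set.mem_singleton_iff] at hZ
    subst hZ
    exact ((Homeomorph.Set.univ X).isHomeomorph.topologicalKrullDim_eq _).trans (by simpa using hdim)

/-- an affine neighbourhood of a finite set trivialising two invertible modules -/
theorem exists_affine_gens {H : X.Modules} (hH : CohB1.IsAmple H) {S : Set X} (hS : S.Finite)
    {L₁ L₂ : X.Modules} (h₁ : PicF.IsInvertible L₁) (h₂ : PicF.IsInvertible L₂) :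
    ∃ (V : X.affineOpens) (e₁ : Γ(L₁, V.1)) (e₂ : Γ(L₂, V.1)), S ⊆ (V.1 : Set X) ∧ IsGen e₁ ∧ IsGen e₂ := by
  obtain ⟨n, t, hSt, -, ht⟩ := TMul.exists_finite_le hH hS (U := ⊤) (fun x _ => trivial)
  obtain ⟨V₁, e₁, hS₁, he₁⟩ := MeroLib.exists_gen_near_finite h₁ ht S hSt hS
  obtain ⟨V₂, e₂, hS₂, he₂⟩ := MeroLib.exists_gen_near_finite h₂ ht S hSt hS
  obtain ⟨m, s, hSs, hs, hsa⟩ := TMul.exists_finite_le hH hS (U := V₁ ⊓ V₂) (fun x hx => ⟨hS₁ hx, hS₂ hx⟩)
  have h1 : CohB1.genLocus _ s ≤ V₁ := fun x hx => (hs hx).1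
  have h2 : CohB1.genLocus _ s ≤ V₂ := fun x hx => (hs hx).2
  exact ⟨⟨_, hsa⟩, res L₁ h1 e₁, res L₂ h2 e₂, hSs, he₁.res h1, he₂.res h2⟩

end Groth.Agent.CBSurf
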