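import Groth.Agent.CBSurf.Sect
import Groth.Agent.CBSurf.Point
import Groth.Agent.CBSurf.Setup
import Groth.Agent.QC.Closure

/-!
# The inclusion of twisted ideals and its point-sheaf quotient
-/

set_option autoImplicit false
set_option backward.isDefEq.respectTransparency false
set_option backward.isDefEq.respectTransparency.types false
set_option linter.style.haveILetI false
set_option linter.unusedSectionVars false
set_option maxHeartbeats 800000

universe u

open CategoryTheory CategoryTheory.Limits AlgebraicGeometry TopologicalSpace Opposite Abelian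
open Groth.Agent.QC (res resO res_res res_self res_smul resO_resO app_res section_eq_of_locally)
open Groth.Agent.CurveRR (idealIncl secMod)
open Groth.Agent.CohFinite (tmap)
open TMul (IsGen tm)

noncomputable section

namespace Groth.Agent.CBSurf

variable {X : Scheme.{u}} {IP K : X.IdealSheafData}

/-- the inclusion of ideal sheaves as modules -/
def idealInc (h : IP ≤ K) : ClSub.idealMod IP ⟶ ClSub.idealMod K :=
  kernel.lift _ (ClSub.idealModι IP) (by
    refine Scheme.Modules.hom_ext _ _ fun U => ?_
    ext s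
    show (ClSub.toSubscheme K).app U ((ClSub.idealModι IP).app U s) = (0 : Γ(ClSub.quotMod K, U))
    refine section_eq_of_locally fun y hy => ?_
    obtain ⟨W, hW, hyW, hWU⟩ := exists_isAffineOpen_mem_and_subset hy
    refine ⟨W, hWU, hyW, ?_⟩
    rw [map_zero, app_res, app_res]
    exact (Groth.Agent.QC.mem_range_idealModι K W _).1 ((Groth.Agent.QC.mem_range_idealModι_affine K ⟨W, hW⟩ _).2
      (h ⟨W, hW⟩ ((Groth.Agent.QC.mem_range_idealModι_affine IP ⟨W, hW⟩ _).1 ⟨_, rfl⟩))))

@[reassoc]
theorem idealInc_ι (h : IP ≤ K) : idealInc h ≫ ClSub.idealModι K = ClSub.idealModι IP := kernel.lift_ι _ _ _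

/-- its twist -/
def twistInc (h : IP ≤ K) (M : X.Modules) :
    CohB1.tensorMod (ClSub.idealMod IP) M ⟶ CohB1.tensorMod (ClSub.idealMod K) M := tmap (idealInc h) M

theorem twistInc_incl (h : IP ≤ K) (M : X.Modules) : twistInc h M ≫ idealIncl K M = idealIncl IP M := by
  show tmap _ M ≫ tmap _ M ≫ _ = tmap _ M ≫ _
  rw [← Category.assoc, ← CohFinite.tmap_comp, idealInc_ι]

theorem mono_twistInc (h : IP ≤ K) {M : X.Modules} (hM : PicF.IsInvertible M) : Mono (twistInc h M) := by
  haveI := CurveRR.mono_idealIncl hM IP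
  exact mono_of_mono_fac (twistInc_incl h M)

variable {M : X.Modules} {V : X.affineOpens} {e : Γ(M, V.1)}

/-- coefficient of a section of the twisted ideal -/
theorem exists_coeff_mem (he : IsGen e) (w : Γ(CohB1.tensorMod (ClSub.idealMod K) M, V.1)) :
    ∃ a ∈ K.ideal V, (idealIncl K M).app V.1 w = a • e := by
  obtain ⟨a, rfl⟩ := (TMul.tm_bijective (M := ClSub.idealMod K) he V.1 le_rfl).2 w
  refine ⟨(ClSub.idealModι K).app V.1 a, (Groth.Agent.QC.mem_range_idealModι_affine K V _).1 ⟨a, rfl⟩, ?_⟩
  show (idealIncl K M).app V.1 (tm a (res M le_rfl e)) = _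
  rw [CurveRR.idealIncl_tm, res_self]

theorem exists_sect_of_mem (he : IsGen e) {a : Γ(X, V.1)} (ha : a ∈ K.ideal V) :
    ∃ w : Γ(CohB1.tensorMod (ClSub.idealMod K) M, V.1), (idealIncl K M).app V.1 w = a • e := by
  obtain ⟨b, hb⟩ := (Groth.Agent.QC.mem_range_idealModι_affine K V _).2 ha
  refine ⟨tm b e, ?_⟩
  rw [CurveRR.idealIncl_tm, ← hb]

end Groth.Agent.CBSurf
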