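import Groth.Agent.CBSurf.Bundle
import Groth.Agent.CurveRR.Easy
import Groth.Agent.Nagata.ProjBundles

/-!
# The Cayley–Bacharach criterion with arbitrary line bundles
-/

set_option autoImplicit false
set_option backward.isDefEq.respectTransparency false
set_option backward.isDefEq.respectTransparency.types false
set_option linter.style.haveILetI false
set_option linter.unusedSectionVars false
set_option maxHeartbeats 1000000

universe u

open CategoryTheory CategoryTheory.Limits AlgebraicGeometry TopologicalSpace Opposite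
open Groth.Agent.CohFinite (tmap)

noncomputable section

namespace Groth.Agent.CBSurf

variable {X : Scheme.{u}}

theorem shortExact_ends {C : Type*} [Category C] [Abelian C] {P Q R P' R' : C} (a : P ≅ P') (b : R ≅ R')
    {f : P ⟶ Q} {g : Q ⟶ R} {w : f ≫ g = 0} (h : (ShortComplex.mk f g w).ShortExact)
    (w' : (a.inv ≫ f) ≫ g ≫ b.hom = 0) : (ShortComplex.mk (a.inv ≫ f) (g ≫ b.hom) w').ShortExact :=
  ShortComplex.shortExact_of_iso (ShortComplex.isoMk a (Iso.refl _) b (by simp) (by simp) :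
    ShortComplex.mk f g w ≅ ShortComplex.mk (a.inv ≫ f) (g ≫ b.hom) w') h

/-- twist a bundle extension and change its ends along isomorphisms -/
theorem twist_ext [IsLocallyNoetherian X] [AlgebraicGeometry.IsIntegral X] {A B A' B' T : X.Modules} (hT : PicF.IsInvertible T)
    (a : CohB1.tensorMod A T ≅ A') (b : CohB1.tensorMod B T ≅ B')
    (h : ∃ (E : X.Modules) (f : A ⟶ E) (g : E ⟶ B) (w : f ≫ g = 0),
      FlatMod.IsFinLocFreeOfRank 2 E ∧ (ShortComplex.mk f g w).ShortExact) :
    ∃ (E : X.Modules) (f : A' ⟶ E) (g : E ⟶ B') (w : f ≫ g = 0),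
      FlatMod.IsFinLocFreeOfRank 2 E ∧ (ShortComplex.mk f g w).ShortExact := by
  obtain ⟨E, f, g, w, hr, hS⟩ := h
  have w0 : tmap f T ≫ tmap g T = 0 := by
    rw [← CohFinite.tmap_comp, w]
    exact (AddMonoidHom.mk' (fun φ => tmap φ T) fun p q => CohFinite.tmap_add p q T).map_zero
  refine ⟨CohB1.tensorMod E T, a.inv ≫ tmap f T, tmap g T ≫ b.hom,
    by rw [Category.assoc, reassoc_of% w0, zero_comp, comp_zero], W7Slope.rank_tensor_inv hr hT, ?_⟩
  exact shortExact_ends a b (CohFinite.shortExact_tmap hT hS) _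

variable {k : Type u} [Field k] [IsAlgClosed k] [X.Over (Spec (CommRingCat.of k))]
  [IsProper (X ↘ Spec (CommRingCat.of k))] [IrreducibleSpace X] [Smooth (X ↘ Spec (CommRingCat.of k))]

/-- The Cayley–Bacharach criterion. -/
theorem bundle_iff_cb (hdim : topologicalKrullDim X = 2) {H : X.Modules} (hH : CohB1.IsAmple H)
    {ω : X.Modules} (hω : ExtPow.IsExtPow 2 (Omega.sheaf (X ↘ Spec (CommRingCat.of k))) ω)
    {U Uinv L : X.Modules} (hU : PicF.IsInvertible U) (hUinv : ClSub.IsInverseOf Uinv U) (hL : PicF.IsInvertible L)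
    (IP : X.IdealSheafData) (hfin : (IP.support : Set X).Finite)
    (hlci : ∀ x : X, ∃ W : X.affineOpens, x ∈ (W : X.Opens) ∧ ∃ a b : Γ(X, W), IP.ideal W = Ideal.span {a, b}) :
    (∃ (E : X.Modules) (i : U ⟶ E) (p : E ⟶ CohB1.tensorMod L (ClSub.idealMod IP)) (w : i ≫ p = 0),
      FlatMod.IsFinLocFreeOfRank 2 E ∧ (ShortComplex.mk i p w).ShortExact) ↔
      (∀ I' : X.IdealSheafData, IP ⋖ I' →
        ∀ σ : Coh.structureModule X ⟶ CohB1.tensorMod (CohB1.tensorMod L Uinv) ω,
          PicF2.zeroScheme (CohB1.tensorMod (CohB1.tensorMod L Uinv) ω) σ ≤ I' →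
            PicF2.zeroScheme (CohB1.tensorMod (CohB1.tensorMod L Uinv) ω) σ ≤ IP) := by
  haveI := CurveRR.isNoetherian_of_proper k X
  haveI : AlgebraicGeometry.IsIntegral X := CurveRR.Easy.isIntegral_of_smooth (k := k)
  haveI := SerrePn.enoughInjectives (X := X)
  haveI : HasExt.{u} X.Modules := hasExt_of_enoughInjectives _
  have hωi : PicF.IsInvertible ω := SurfAdj.isInvertible_W k hdim hω
  obtain ⟨W', hW', ⟨eω⟩⟩ := W7Hull.exists_tensor_inverse hωi
  obtain ⟨eU⟩ := hUinv
  obtain ⟨U', hU', ⟨eU'⟩⟩ := W7Hull.exists_tensor_inverse hU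
  obtain ⟨j⟩ := AmpleEmb.nonempty_iso_of_inverse (A := U') (A' := Uinv) (B := U) eU' eU
  have hUi : PicF.IsInvertible Uinv := Nagata.isInvertible_of_iso' j.symm hU'
  let M := CohB1.tensorMod (CohB1.tensorMod L Uinv) ω
  have hM : PicF.IsInvertible M := TMul.isInvertible_tensorMod (TMul.isInvertible_tensorMod hL hUi) hωi
  obtain ⟨V, e, -, hS, he, -⟩ := exists_affine_gens hH hfin hM hM
  constructor
  · intro h K hK
    obtain ⟨E, f, g, w, hr, hE⟩ := twist_ext (T := CohB1.tensorMod Uinv ω)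
      (TMul.isInvertible_tensorMod hUi hωi)
      ((TMul.assocIso U Uinv ω).symm ≪≫ PicGrp.tensorModIso (TMul.commIso U Uinv ≪≫ eU) (Iso.refl ω) ≪≫
        TMul.leftUnitIso ω)
      (PicGrp.tensorModIso (TMul.commIso L (ClSub.idealMod IP)) (Iso.refl _) ≪≫ TMul.assocIso _ _ _ ≪≫
        PicGrp.tensorModIso (Iso.refl _) (TMul.assocIso L Uinv ω).symm) h
    exact cb_of_bundle hdim hω hfin hS hM he hE (Nagata.isFinLocFree_of_rank' hr) hK
  · intro hCB
    exact twist_ext (T := CohB1.tensorMod U W') (TMul.isInvertible_tensorMod hU hW')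
      (PicGrp.tensorModIso (Iso.refl ω) (TMul.commIso U W') ≪≫ (TMul.assocIso ω W' U).symm ≪≫
        PicGrp.tensorModIso eω (Iso.refl U) ≪≫ TMul.leftUnitIso U)
      (TMul.assocIso _ _ _ ≪≫ PicGrp.tensorModIso (Iso.refl _)
        (TMul.swapIso (CohB1.tensorMod L Uinv) ω U W' ≪≫
          PicGrp.tensorModIso (TMul.assocIso L Uinv U ≪≫ PicGrp.tensorModIso (Iso.refl L) eU ≪≫ SecTwist.unitorR L) eω ≪≫
          SecTwist.unitorR L) ≪≫ TMul.commIso _ _)
      (bundle_of_cb hdim hω hfin hS hM he hlci hCB)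

end Groth.Agent.CBSurf
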