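import Groth.Agent.CBSurf.Atoms
import Mathlib.RingTheory.Ideal.Quotient.Operations
import Mathlib.Order.Cover

/-!
# Covering ideals and the trace pairing of a finite quotient with simple socles
-/

set_option autoImplicit false
set_option linter.style.haveILetI false

universe u v w

namespace Groth.Agent.CBSurf

variable {A : Type u} [CommRing A] (I : Ideal A)

/-- a nonzero ideal of `A/I` meets a socle -/
theorem exists_socle_mem [IsNoetherianRing A] {K : Ideal A} (hIK : ¬ K ≤ I) :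
    ∃ (z : A) (p : Ideal A), p.IsPrime ∧ I ≤ p ∧ z ∈ K ∧ z ∉ I ∧ ∀ a, a ∈ p ↔ a * z ∈ I := by
  let C : Set (Ideal A) := {p | ∃ z ∈ K, z ∉ I ∧ p = I.colon ({z} : Set A)}
  obtain ⟨z₀, hz₀, hz₀'⟩ := SetLike.not_le_iff_exists.1 hIK
  obtain ⟨p, ⟨z, hzK, hzI, rfl⟩, hmax⟩ := set_has_maximal_iff_noetherian.2 ‹IsNoetherianRing A› C
    ⟨_, z₀, hz₀, hz₀', rfl⟩
  have hmem : ∀ a, a ∈ I.colon ({z} : Set A) ↔ a * z ∈ I := fun a => by
    simp [Submodule.mem_colon_singleton, smul_eq_mul]
  refine ⟨z, _, ⟨fun h => hzI ?_, fun {a b} hab => or_iff_not_imp_left.2 fun ha => ?_⟩, fun a ha =>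
    (hmem a).2 (I.mul_mem_right _ ha), hzK, hzI, hmem⟩
  · simpa using (hmem 1).1 (h ▸ Submodule.mem_top)
  · have haz : a * z ∉ I := fun h => ha ((hmem a).2 h)
    have hle : I.colon ({z} : Set A) ≤ I.colon ({a * z} : Set A) := fun c hc => by
      simp only [Submodule.mem_colon_singleton, smul_eq_mul] at hc ⊢
      rw [show c * (a * z) = a * (c * z) by ring]
      exact I.mul_mem_left a hc
    rcases hle.lt_or_eq with h | h
    · exact absurd h (hmax _ ⟨a * z, K.mul_mem_left a hzK, haz, rfl⟩)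
    · rw [h]
      simp only [Submodule.mem_colon_singleton, smul_eq_mul]
      have := (hmem (a * b)).1 hab
      rwa [show b * (a * z) = a * b * z by ring]

/-- The ideal generated by a socle element covers. -/
theorem covBy_sup_span {m : Ideal A} (hm : m.IsMaximal) {z : A} (hz : ∀ a ∈ m, a * z ∈ I) (hzI : z ∉ I) :
    I ⋖ I ⊔ Ideal.span {z} := by
  refine ⟨lt_of_le_of_ne le_sup_left fun h => hzI (h ▸ Ideal.mem_sup_right (Ideal.mem_span_singleton_self z)),
    fun K hIK hK => hK.not_ge (sup_le hIK.le ?_)⟩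
  obtain ⟨k, hkK, hkI⟩ := SetLike.exists_of_lt hIK
  obtain ⟨i, hi, y, hy, rfl⟩ := Submodule.mem_sup.1 (hK.le hkK)
  obtain ⟨c, rfl⟩ := Ideal.mem_span_singleton'.1 hy
  have hc : c ∉ m := fun hc => hkI (add_mem hi (hz c hc))
  obtain ⟨u, j, hj, huj⟩ := hm.exists_inv hc
  rw [Ideal.span_singleton_le_iff_mem, show z = j * z + (u * (i + c * z) - u * i) by linear_combination -(z * huj)]
  exact add_mem (hIK.le (hz j hj)) (sub_mem (K.mul_mem_left u hkK) (hIK.le (I.mul_mem_left u hi)))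

section Pairing

variable {k : Type w} [Field k]

/-- a functional killing a subspace and none of finitely many outside vectors -/
theorem exists_dual_avoid [Infinite k] {M : Type v} [AddCommGroup M] [Module k M] (W : Submodule k M) {ι : Type*}
    (s : Finset ι) (x : ι → M) (hx : ∀ i ∈ s, x i ∉ W) :
    ∃ τ : Module.Dual k M, (∀ w ∈ W, τ w = 0) ∧ ∀ i ∈ s, τ (x i) ≠ 0 := by
  classical
  induction s using Finset.induction with
  | empty => exact ⟨0, fun _ _ => rfl, by simp⟩
  | insert i s his ih =>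
    obtain ⟨τ, hτ, hτ'⟩ := ih fun j hj => hx j (Finset.mem_insert_of_mem hj)
    obtain ⟨σ, hσ, hσW⟩ := Submodule.exists_dual_map_eq_bot_of_notMem (hx i (Finset.mem_insert_self i s))
      inferInstance
    have hσ' : ∀ w ∈ W, σ w = 0 := fun w hw =>
      (Submodule.mem_bot k).1 (hσW ▸ Submodule.mem_map_of_mem hw)
    obtain ⟨c, hc⟩ := (s.image fun j => -(σ (x j) / τ (x j))).exists_notMem
    by_cases hi : τ (x i) = 0
    · refine ⟨c • τ + σ, fun w hw => by simp [hτ w hw, hσ' w hw], fun j hj h => ?_⟩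
      simp only [LinearMap.add_apply, LinearMap.smul_apply, smul_eq_mul] at h
      rcases Finset.mem_insert.1 hj with rfl | hj
      · rw [hi, mul_zero, zero_add] at h
        exact hσ h
      · refine hc (Finset.mem_image.2 ⟨j, hj, ?_⟩)
        rw [neg_div' _ _, div_eq_iff (hτ' j hj)]
        linear_combination -h
    · exact ⟨τ, hτ, fun j hj => (Finset.mem_insert.1 hj).elim (fun e => e ▸ hi) (hτ' j)⟩

variable [Algebra k A]

/-- Subspaces whose products miss all socles have dimensions summing to at most the length. -/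
theorem rank_add_rank_le [Infinite k] [IsNoetherianRing A] (hfd : Module.Finite k (A ⧸ I))
    (hmax : ∀ p : Ideal A, p.IsPrime → I ≤ p → p.IsMaximal) (hfin : {p : Ideal A | p.IsPrime ∧ I ≤ p}.Finite)
    (hsoc : ∀ m : Ideal A, m.IsMaximal → I ≤ m → SocAt I m) (V₁ V₂ W : Submodule k (A ⧸ I))
    (hmul : ∀ x ∈ V₁, ∀ y ∈ V₂, x * y ∈ W)
    (hW : ∀ (m : Ideal A) (z : A), m.IsMaximal → I ≤ m → (∀ a ∈ m, a * z ∈ I) → z ∉ I →
      Ideal.Quotient.mk I z ∉ W) :
    Module.finrank k V₁ + Module.finrank k V₂ ≤ Module.finrank k (A ⧸ I) := by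
  classical
  haveI := hfd
  let M : Set (Ideal A) := {p | (p.IsPrime ∧ I ≤ p) ∧ ∃ z, (∀ a ∈ p, a * z ∈ I) ∧ z ∉ I}
  haveI : Finite M := (hfin.subset fun p hp => hp.1).to_subtype
  haveI := Fintype.ofFinite M
  choose zz hzz hzI using fun m : M => m.2.2
  obtain ⟨τ, hτ, hτz⟩ := exists_dual_avoid W (Finset.univ : Finset M) (fun m => Ideal.Quotient.mk I (zz m))
    fun m _ => hW m.1 (zz m) (hmax _ m.2.1.1 m.2.1.2) m.2.1.2 (hzz m) (hzI m)
  let β : (A ⧸ I) →ₗ[k] Module.Dual k (A ⧸ I) := (LinearMap.mul k (A ⧸ I)).compr₂ τ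
  have hβ : Function.Injective β := (injective_iff_map_eq_zero β).2 fun r hr => by
    obtain ⟨r, rfl⟩ := Ideal.Quotient.mk_surjective r
    by_contra h
    have hrI : ¬ I ⊔ Ideal.span {r} ≤ I := fun hle =>
      h (Ideal.Quotient.eq_zero_iff_mem.2 (hle (Ideal.mem_sup_right (Ideal.mem_span_singleton_self r))))
    obtain ⟨z, p, hp, hIp, hzK, hzI', hann⟩ := exists_socle_mem I hrI
    have hpm := hmax p hp hIp
    let m : M := ⟨p, ⟨hp, hIp⟩, z, fun a ha => (hann a).1 ha, hzI'⟩
    obtain ⟨c, hc⟩ := hsoc p hpm hIp z (zz m) (fun a ha => (hann a).1 ha) (hzz m) hzI'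
    obtain ⟨i, hi, y, hy, hiy⟩ := Submodule.mem_sup.1 hzK
    obtain ⟨d, rfl⟩ := Ideal.mem_span_singleton'.1 hy
    have he : Ideal.Quotient.mk I (zz m) = Ideal.Quotient.mk I r * Ideal.Quotient.mk I (c * d) := by
      rw [← map_mul]
      refine Ideal.Quotient.eq.2 ?_
      rw [show zz m - r * (c * d) = (zz m - c * z) + c * i by rw [← hiy]; ring]
      exact add_mem hc (I.mul_mem_left c hi)
    refine hτz m (Finset.mem_univ m) ?_
    show τ (Ideal.Quotient.mk I (zz m)) = 0
    rw [he]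
    exact LinearMap.congr_fun hr (Ideal.Quotient.mk I (c * d))
  have hle : V₂.map β ≤ V₁.dualAnnihilator := by
    rintro f ⟨y, hy, rfl⟩
    refine (Submodule.mem_dualAnnihilator _).2 fun x hx => ?_
    show τ (y * x) = 0
    rw [mul_comm]
    exact hτ _ (hmul x hx y hy)
  have h1 := Submodule.finrank_mono hle
  rw [← (Submodule.equivMapOfInjective β hβ V₂).finrank_eq] at h1
  have h2 := Subspace.finrank_add_finrank_dualAnnihilator_eq V₁
  omega

end Pairing

end Groth.Agent.CBSurf
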