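import Groth.Agent.CBSurf.Incl

/-!
# The quotient of a covering pair of twisted ideals is a point module
-/

set_option autoImplicit false
set_option backward.isDefEq.respectTransparency false
set_option backward.isDefEq.respectTransparency.types false
set_option linter.style.haveILetI false
set_option linter.unusedSectionVars false
set_option maxHeartbeats 800000

universe u

open CategoryTheory CategoryTheory.Limits AlgebraicGeometry TopologicalSpace Opposite Abelian
open Groth.Agent.QC (res resO res_res res_self res_smul resO_resO app_res section_eq_of_locally)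
open Groth.Agent.CurveRR (idealIncl secMod resL)
open Groth.Agent.CohFinite (tmap)
open TMul (IsGen tm)

noncomputable section

namespace Groth.Agent.CBSurf

attribute [local instance] CurveRR.secMod valg

variable {k : Type u} [Field k] [IsAlgClosed k] {X : Scheme.{u}} [X.Over (Spec (CommRingCat.of k))]
  [IsProper (X ↘ Spec (CommRingCat.of k))] {IP : X.IdealSheafData} {V : X.affineOpens}

/-- residue fields at the support are `k` -/
theorem exists_const (hfin : (IP.support : Set X).Finite) (hS : (IP.support : Set X) ⊆ (V.1 : Set X))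
    {m : Ideal Γ(X, V.1)} (hm : m.IsMaximal) (hIm : IP.ideal V ≤ m) (a : Γ(X, V.1)) :
    ∃ c : k, a - CurveRR.cst k X V.1 c ∈ m := by
  letI : Field (Γ(X, V.1) ⧸ m) := Ideal.Quotient.field m
  haveI := (finite_euler (k := k) hfin (isClosed_singleton_support (k := k) hfin) hS 0).1
  haveI : Module.Finite k (Γ(X, V.1) ⧸ m) :=
    Module.Finite.of_surjective ((Ideal.Quotient.factorₐ k hIm).toLinearMap) (Ideal.Quotient.factor_surjective hIm)
  haveI : Algebra.IsIntegral k (Γ(X, V.1) ⧸ m) := Algebra.IsIntegral.of_finite k _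
  obtain ⟨c, hc⟩ := (IsAlgClosed.algebraMap_bijective_of_isIntegral (k := k) (K := Γ(X, V.1) ⧸ m)).2 (Ideal.Quotient.mk m a)
  exact ⟨c, Ideal.Quotient.eq.1 hc.symm⟩

/-- the point of a maximal ideal -/
def ptOf (V : X.affineOpens) (m : Ideal Γ(X, V.1)) [hm : m.IsPrime] : X := V.2.fromSpec ⟨m, hm⟩

theorem ptOf_mem (m : Ideal Γ(X, V.1)) [m.IsPrime] : ptOf V m ∈ V.1 := by
  have h := Set.mem_range_self (f := ⇑V.2.fromSpec) (⟨m, ‹m.IsPrime›⟩ : PrimeSpectrum Γ(X, V.1))
  rw [V.2.range_fromSpec] at h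
  exact h

theorem ptOf_mem_support (m : Ideal Γ(X, V.1)) [m.IsPrime] (hIm : IP.ideal V ≤ m) :
    ptOf V m ∈ (IP.support : Set X) := by
  refine (show ptOf V m ∈ (IP.support : Set X) ∩ (V.1 : Set X) from ?_).1
  rw [IP.coe_support_inter V, ← V.2.fromSpec_image_zeroLocus]
  exact ⟨⟨m, ‹m.IsPrime›⟩, hIm, rfl⟩

variable {K : X.IdealSheafData} {M : X.Modules} {e : Γ(M, V.1)} {m : Ideal Γ(X, V.1)} {z : Γ(X, V.1)}

variable (hfin : (IP.support : Set X).Finite) (hS : (IP.support : Set X) ⊆ (V.1 : Set X)) (hle : IP ≤ K)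
  (hM : PicF.IsInvertible M) (he : IsGen e) (hm : m.IsMaximal) (hIm : IP.ideal V ≤ m)
  (hz : ∀ a ∈ m, a * z ∈ IP.ideal V) (hzI : z ∉ IP.ideal V) (hKV : K.ideal V = IP.ideal V ⊔ Ideal.span {z})

include hfin hS hle hM he hm hIm hz hzI hKV in
/-- The quotient is coherent, lives at the point, has one section, and maps to the twisted structure module of
the subscheme by socle elements only. -/
theorem quot_facts :
    Coh.IsCoh (cokernel (twistInc hle M)) ∧
      CohB1.support (cokernel (twistInc hle M)) ⊆ {@ptOf X V m hm.isPrime} ∧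
      CurveRR.h k (cokernel (twistInc hle M)) 0 = 1 ∧
      ∃ r : Γ(cokernel (twistInc hle M), V.1), r ≠ 0 ∧ (∀ a ∈ m, a • r = 0) ∧
        ∀ {Q : X.Modules} (f : cokernel (twistInc hle M) ⟶ Q), f.app V.1 r = 0 → f = 0 := by
  haveI := CurveRR.isNoetherian_of_proper k X
  haveI := hm.isPrime
  have hcl := isClosed_singleton_support (k := k) hfin
  have hMc : Coh.IsCoh M := CurveRR.isCoh_of_rank (CurveRR.isFinLocFreeOfRank_one hM)
  have hA : ∀ J : X.IdealSheafData, Coh.IsCoh (CohB1.tensorMod (ClSub.idealMod J) M) := fun J =>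
    CurveRR.isCoh_tensor' (CurveRR.isCoh_idealMod J).1 hMc
  have hG : Coh.IsCoh (cokernel (twistInc hle M)) := QC.isCoh_cokernel (hA IP).1 (hA K) _
  haveI := mono_twistInc hle hM
  let T : ShortComplex X.Modules := ShortComplex.mk (twistInc hle M) (cokernel.π _) (cokernel.condition _)
  have hT : T.ShortExact := { exact := ShortComplex.exact_cokernel _ }
  let π := cokernel.π (twistInc hle M)
  have hzero : ∀ w, (π.app V.1 w = 0) ↔ ∀ a, (idealIncl K M).app V.1 w = a • e → a ∈ IP.ideal V := by
    intro w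
    constructor
    · intro h a ha
      obtain ⟨u, hu⟩ := Groth.Agent.SiteCoh.sections_exact (CohFinite.shortExact_toAb hT) V.1 w h
      obtain ⟨b, hb, hub⟩ := exists_coeff_mem he u
      have : a • e = b • e := by
        refine ha.symm.trans (Eq.trans ?_ hub)
        refine Eq.trans (congrArg ((idealIncl K M).app V.1) hu.symm) ?_
        exact ConcreteCategory.congr_hom (congrArg (fun φ => φ.app V.1) (twistInc_incl hle M)) u
      have hab : a = b := (he V.1 le_rfl).1 (by simpa [res_self] using this)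
      exact hab ▸ hb
    · intro h
      obtain ⟨a, -, ha⟩ := exists_coeff_mem he w
      obtain ⟨u, hu⟩ := exists_sect_of_mem he (h a ha)
      haveI := CurveRR.mono_idealIncl hM K
      have hw : (twistInc hle M).app V.1 u = w := QC.app_injective_of_mono (idealIncl K M) V.1 (by
        rw [ha, ← hu]
        exact ConcreteCategory.congr_hom (congrArg (fun φ => φ.app V.1) (twistInc_incl hle M)) u)
      rw [← hw]
      exact ConcreteCategory.congr_hom (congrArg (fun φ => φ.app V.1) (cokernel.condition (twistInc hle M))) u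
  obtain ⟨wz, hwz⟩ := exists_sect_of_mem (K := K) (M := M) (a := z) he
    (hKV ▸ Ideal.mem_sup_right (Ideal.mem_span_singleton_self z))
  let r := π.app V.1 wz
  have hr : r ≠ 0 := fun h => hzI ((hzero wz).1 h z hwz)
  have hkill : ∀ a ∈ m, a • r = 0 := fun a ha => by
    show a • π.app V.1 wz = 0
    rw [← TMul.app_smul]
    refine (hzero _).2 fun b hb => ?_
    rw [TMul.app_smul, hwz, smul_smul] at hb
    have : a * z = b := (he V.1 le_rfl).1 (by simpa [res_self] using hb)
    exact this ▸ hz a ha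
  have hsurj : ∀ t : Γ(cokernel (twistInc hle M), V.1), ∃ c : k, t = c • r := fun t => by
    obtain ⟨w, rfl⟩ := QC.app_surjective_of_epi V.2 (hA K).1 hG.1 π t
    obtain ⟨a, ha, haw⟩ := exists_coeff_mem he w
    rw [hKV] at ha
    obtain ⟨i, hi, y, hy, rfl⟩ := Submodule.mem_sup.1 ha
    obtain ⟨d, rfl⟩ := Ideal.mem_span_singleton'.1 hy
    obtain ⟨c, hc⟩ := exists_const (k := k) hfin hS hm hIm d
    refine ⟨c, ?_⟩
    show π.app V.1 w = CurveRR.cst k X V.1 c • π.app V.1 wz
    rw [← TMul.app_smul, ← sub_eq_zero, ← map_sub]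
    refine (hzero _).2 fun b hb => ?_
    rw [map_sub, TMul.app_smul, haw, hwz, smul_smul, ← sub_smul] at hb
    have hbe : i + d * z - CurveRR.cst k X V.1 c * z = b := (he V.1 le_rfl).1 (by simpa [res_self] using hb)
    rw [← hbe, show i + d * z - CurveRR.cst k X V.1 c * z = i + (d - CurveRR.cst k X V.1 c) * z by ring]
    exact add_mem hi (hz _ hc)
  have hsupp0 : CohB1.support (cokernel (twistInc hle M)) ⊆ (IP.support : Set X) := by
    intro y hy
    by_contra hyS
    refine ((Groth.Agent.QC.notMem_support_iff y).mpr fun U hyU s => ?_) hy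
    obtain ⟨W, hW, hyW, hWU⟩ := exists_isAffineOpen_mem_and_subset
      (U := U ⊓ (⟨(IP.support : Set X)ᶜ, IP.support.isClosed.isOpen_compl⟩ : X.Opens)) (x := y) ⟨hyU, hyS⟩
    refine ⟨W, fun p hp => (hWU hp).1, hyW, ?_⟩
    refine section_eq_of_locally fun p hp => ?_
    obtain ⟨D, g, hpD, hg⟩ := TMul.exists_isGen hM p
    obtain ⟨W', hW', hpW', hW'le⟩ := exists_isAffineOpen_mem_and_subset (U := W ⊓ D) (x := p) ⟨hp, hpD⟩
    refine ⟨W', fun q hq => (hW'le hq).1, hpW', ?_⟩
    rw [map_zero]
    obtain ⟨w, hw⟩ := QC.app_surjective_of_epi hW' (hA K).1 hG.1 π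
      (res _ (fun q hq => (hW'le hq).1 : W' ≤ W) (res _ (fun q hq => (hWU hq).1 : W ≤ U) s))
    rw [← hw]
    have hgW : IsGen (res M (fun q hq => (hW'le hq).2 : W' ≤ D) g) := hg.res _
    obtain ⟨a, -, ha⟩ := exists_coeff_mem (V := ⟨W', hW'⟩) hgW w
    have hItop : IP.ideal ⟨W', hW'⟩ = ⊤ := by
      by_contra hne
      obtain ⟨P, hP, hleP⟩ := Ideal.exists_le_maximal _ hne
      haveI := hP.isPrime
      have hmem := ptOf_mem_support (IP := IP) (V := ⟨W', hW'⟩) P hleP
      exact (hWU (hW'le (ptOf_mem (V := ⟨W', hW'⟩) P)).1).2 hmem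
    obtain ⟨u, hu⟩ := exists_sect_of_mem (K := IP) (V := ⟨W', hW'⟩) hgW (a := a) (hItop ▸ Submodule.mem_top)
    haveI := CurveRR.mono_idealIncl hM K
    have hwu : (twistInc hle M).app W' u = w := QC.app_injective_of_mono (idealIncl K M) W' (by
      rw [ha, ← hu]
      exact ConcreteCategory.congr_hom (congrArg (fun φ => φ.app W') (twistInc_incl hle M)) u)
    rw [← hwu]
    exact ConcreteCategory.congr_hom (congrArg (fun φ => φ.app W') (cokernel.condition (twistInc hle M))) u
  have hclosed : ∀ T ⊆ CohB1.support (cokernel (twistInc hle M)), IsClosed T := fun T hT' => by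
    rw [← Set.biUnion_of_singleton T]
    exact (hfin.subset (hT'.trans hsupp0)).isClosed_biUnion fun p hp => hcl p (hsupp0 (hT' hp))
  have hext : ∀ (U : X.Opens) (s : Γ(cokernel (twistInc hle M), U)), ∃ a, res _ (le_top : U ≤ ⊤) a = s :=
    fun U s => SuppZero.exists_extend_global _ hclosed U s
  have hinj : ∀ a : Γ(cokernel (twistInc hle M), ⊤), res _ (le_top : V.1 ≤ ⊤) a = 0 → a = 0 := fun a ha =>
    section_eq_of_locally fun p _ => by
      by_cases hp : p ∈ (IP.support : Set X)
      · exact ⟨V.1, le_top, hS hp, ha.trans (map_zero _).symm⟩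
      · exact ⟨⟨(IP.support : Set X)ᶜ, IP.support.isClosed.isOpen_compl⟩, le_top, hp,
          ((CurveRR.suppIn_of_subset hsupp0) _ _ fun q hq => hq).trans (map_zero _).symm⟩
  obtain ⟨r₀, hr₀⟩ := hext V.1 r
  have htop : ∀ a : Γ(cokernel (twistInc hle M), ⊤), ∃ c : k, a = c • r₀ := fun a => by
    obtain ⟨c, hc⟩ := hsurj (res _ le_top a)
    refine ⟨c, sub_eq_zero.1 (hinj _ ?_)⟩
    have h1 : res _ (le_top : V.1 ≤ ⊤) (c • r₀) = c • r := by
      rw [← hr₀]
      exact map_smul (resL (k := k) _ le_top) c r₀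
    rw [map_sub, h1, hc, sub_self]
  refine ⟨hG, fun y hy => ?_, ?_, r, hr, hkill, fun {Q} f hf => ?_⟩
  · by_contra hne
    have hyS := hsupp0 hy
    refine ((Groth.Agent.QC.notMem_support_iff y).mpr fun U hyU s => ?_) hy
    obtain ⟨a, ha, hya⟩ : ∃ a ∈ m, y ∈ X.basicOpen (a : Γ(X, V.1)) := by
      by_contra hno
      push Not at hno
      refine hne ?_
      obtain ⟨q, hq⟩ : y ∈ Set.range V.2.fromSpec := by rw [V.2.range_fromSpec]; exact hS hyS
      have hqm : m ≤ q.asIdeal := fun a ha => by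
        by_contra haq
        refine hno a ha ?_
        rw [← hq]
        exact (V.2.fromSpec_preimage_basicOpen a).ge haq
      have := hm.eq_of_le q.isPrime.ne_top hqm
      show y = V.2.fromSpec ⟨m, _⟩
      rw [← hq]
      exact congrArg _ (PrimeSpectrum.ext this.symm)
    obtain ⟨b, hb⟩ := hext U s
    obtain ⟨c, rfl⟩ := htop b
    have hD : X.basicOpen a ⊓ U ≤ X.basicOpen a := inf_le_left
    refine ⟨X.basicOpen a ⊓ U, inf_le_right, ⟨hya, hyU⟩, ?_⟩
    have hz0 : res (cokernel (twistInc hle M)) (le_top : X.basicOpen a ≤ ⊤) r₀ = 0 := by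
      have h2 : res (cokernel (twistInc hle M)) (le_top : V.1 ≤ ⊤) r₀ = r := hr₀
      have h3 : res (cokernel (twistInc hle M)) (X.basicOpen_le a) (a • r) = 0 := by rw [hkill a ha, map_zero]
      rw [res_smul, ← h2, res_res] at h3
      exact ZeroSch.unit_smul_cancel (ZeroSch.isUnit_res a) (h3.trans (smul_zero _).symm)
    rw [← hb, res_res, ← res_res _ hD (le_top : X.basicOpen a ≤ ⊤)]
    have h5 : res (cokernel (twistInc hle M)) (le_top : X.basicOpen a ≤ ⊤) (c • r₀) = c • (0 : Γ(cokernel (twistInc hle M), X.basicOpen a)) := by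
      rw [← hz0]
      exact map_smul (resL (k := k) _ le_top) c r₀
    rw [h5, smul_zero, map_zero]
  · rw [← CurveRR.finrank_sec]
    refine finrank_eq_one r₀ (fun h => hr ?_) fun a => ?_
    · rw [← hr₀, h, map_zero]
    · obtain ⟨c, hc⟩ := htop a
      exact ⟨c, hc.symm⟩
  · have hdim0 : topologicalKrullDim (IP.support : Set X) ≤ 0 := by
      haveI : Finite (IP.support : Set X) := hfin.to_subtype
      haveI : T1Space (IP.support : Set X) := t1Space_iff_exists_open.2 fun a b hab =>
        ⟨Subtype.val ⁻¹' ({b.1}ᶜ : Set X), (hcl b.1 b.2).isOpen_compl.preimage continuous_subtype_val,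
          fun h => hab (Subtype.ext h), fun h => h rfl⟩
      exact topologicalKrullDim_zero_of_discreteTopology _
    refine eq_zero_of_top (k := k) f IP.support.isClosed hdim0 hsupp0 fun a => ?_
    obtain ⟨c, rfl⟩ := htop a
    have h0 : f.app ⊤ r₀ = 0 := section_eq_of_locally fun p _ => by
      by_cases hp : p ∈ (IP.support : Set X)
      · refine ⟨V.1, le_top, hS hp, ?_⟩
        rw [app_res, hr₀, hf, map_zero]
      · refine ⟨⟨(IP.support : Set X)ᶜ, IP.support.isClosed.isOpen_compl⟩, le_top, hp, ?_⟩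
        rw [app_res, map_zero]
        refine Eq.trans (congrArg (f.app _) ?_) (map_zero _)
        exact (CurveRR.suppIn_of_subset hsupp0) _ _ fun q hq => hq
    show f.app ⊤ (CurveRR.cst k X ⊤ c • r₀) = 0
    rw [TMul.app_smul, h0, smul_zero]

end Groth.Agent.CBSurf
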