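import Groth.Agent.CBSurf.Cover
import Groth.Agent.CurveRR.GlobGen
import Groth.Agent.ZeroSch.Basic
import Groth.Prelude.Def_FGA

/-!
# Restriction of global sections to a zero-dimensional subscheme
-/

set_option autoImplicit false
set_option backward.isDefEq.respectTransparency false
set_option backward.isDefEq.respectTransparency.types false
set_option linter.style.haveILetI false
set_option linter.unusedSectionVars false

universe u

open CategoryTheory CategoryTheory.Limits AlgebraicGeometry TopologicalSpace Opposite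
open Groth.Agent.QC (res resO res_res res_self res_smul resO_resO resO_self section_eq_of_locally app_res)
open Groth.Agent.CurveRR (cst secMod secH0 resL idealIncl)
open Groth.Agent.CohFinite (tmap)
open TMul (IsGen tm)

noncomputable section

namespace Groth.Agent.CBSurf

attribute [local instance] CurveRR.secMod

variable {k : Type u} [Field k] {X : Scheme.{u}} [X.Over (Spec (CommRingCat.of k))]

/-- constants -/
@[reducible] def valg (k : Type u) [Field k] {X : Scheme.{u}} [X.Over (Spec (CommRingCat.of k))] (U : X.Opens) :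
    Algebra k Γ(X, U) := (cst k X U).toAlgebra

attribute [local instance] valg

variable {IP : X.IdealSheafData} {V : X.affineOpens} {L : X.Modules} {e : Γ(L, V.1)}

/-- The coefficient of a global section modulo the ideal. -/
def coeff (IP : X.IdealSheafData) (he : IsGen e) : Γ(L, ⊤) →ₗ[k] Γ(X, V.1) ⧸ IP.ideal V where
  toFun s := Ideal.Quotient.mk _ ((TMul.coeffEquiv he le_rfl).symm (res L le_top s))
  map_add' a b := by rw [map_add, map_add, map_add]
  map_smul' a s := by
    have h1 : res L (le_top : V.1 ≤ ⊤) (cst k X ⊤ a • s) = cst k X V.1 a • res L le_top s := by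
      rw [res_smul]
      exact congrArg (· • _) (resO_resO _ _ _)
    show Ideal.Quotient.mk _ ((TMul.coeffEquiv he le_rfl).symm (res L le_top (cst k X ⊤ a • s))) = _
    rw [h1, map_smul, smul_eq_mul, map_mul, RingHom.id_apply, Algebra.smul_def]
    rfl

theorem coeff_eq (he : IsGen e) (s : Γ(L, ⊤)) {c : Γ(X, V.1)} (hc : res L le_top s = c • e) :
    coeff (k := k) IP he s = Ideal.Quotient.mk _ c := by
  show Ideal.Quotient.mk _ ((TMul.coeffEquiv he le_rfl).symm (res L le_top s)) = _
  congr 1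
  rw [LinearEquiv.symm_apply_eq, hc]
  show c • e = c • res L le_rfl e
  rw [res_self]

theorem exists_coeff (he : IsGen e) (s : Γ(L, ⊤)) : ∃ c : Γ(X, V.1), res L le_top s = c • e := by
  obtain ⟨c, hc⟩ := (he V.1 le_rfl).2 (res L le_top s)
  exact ⟨c, by simpa [res_self] using hc.symm⟩

/-- sections vanishing on the subscheme come from the twisted ideal -/
theorem exists_of_coeff_eq_zero (hS : (IP.support : Set X) ⊆ (V.1 : Set X)) (hL : PicF.IsInvertible L)
    (he : IsGen e) (s : Γ(L, ⊤)) (hs : coeff (k := k) IP he s = 0) :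
    ∃ w : Γ(CohB1.tensorMod (ClSub.idealMod IP) L, ⊤), (idealIncl IP L).app ⊤ w = s := by
  obtain ⟨c, hc⟩ := exists_coeff he s
  rw [coeff_eq he s hc, Ideal.Quotient.eq_zero_iff_mem] at hs
  let s' := (TMul.leftUnitIso L).inv.app ⊤ s
  have hQ : CurveRR.SuppIn (CohB1.tensorMod (ClSub.quotMod IP) L) (IP.support : Set X) :=
    CurveRR.suppIn_tensor (CurveRR.suppIn_of_subset (CurveRR.support_quotMod IP)) L
  have hS' : res _ (le_top : V.1 ≤ ⊤) s' = tm (M := Coh.structureModule X) c e := by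
    refine (ConcreteCategory.bijective_of_isIso ((TMul.leftUnitIso L).hom.app V.1)).1 ?_
    show (TMul.leftUnitIso L).hom.app V.1 (res _ le_top s') = (TMul.leftUnitIso L).hom.app V.1 (tm _ e)
    rw [CurveRR.leftUnitIso_tm, ← app_res, show (TMul.leftUnitIso L).hom.app ⊤ s' = s from
      ConcreteCategory.congr_hom (congrArg (fun φ => φ.app ⊤) (TMul.leftUnitIso L).inv_hom_id) s, hc]
  have h0 : (tmap (ClSub.toSubscheme IP) L).app ⊤ s' = 0 := section_eq_of_locally fun y _ => by
    by_cases hy : y ∈ (IP.support : Set X)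
    · refine ⟨V.1, le_top, hS hy, ?_⟩
      rw [map_zero, app_res, hS', CohFinite.tmap_tm]
      have hz : (ClSub.toSubscheme IP).app V.1 c = 0 := by
        rw [← IP.ker_subschemeι_app, RingHom.mem_ker] at hs
        exact hs
      rw [hz]
      exact TMul.zero_tm _
    · exact ⟨⟨(IP.support : Set X)ᶜ, IP.support.isClosed.isOpen_compl⟩, le_top, hy,
        (hQ _ _ fun x hx => hx).trans (map_zero _).symm⟩
  obtain ⟨w, hw⟩ := Groth.Agent.SiteCoh.sections_exact
    (CohFinite.shortExact_toAb (CohFinite.shortExact_tmap hL (CurveRR.ideal_shortExact IP))) ⊤ s' h0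
  refine ⟨w, ?_⟩
  show (TMul.leftUnitIso L).hom.app ⊤ ((tmap (ClSub.idealModι IP) L).app ⊤ w) = s
  rw [show (tmap (ClSub.idealModι IP) L).app ⊤ w = s' from hw]
  exact ConcreteCategory.congr_hom (congrArg (fun φ => φ.app ⊤) (TMul.leftUnitIso L).inv_hom_id) s

/-- sections on the top as a linear map -/
def appL {M N : X.Modules} (φ : M ⟶ N) : Γ(M, ⊤) →ₗ[k] Γ(N, ⊤) where
  toFun := φ.app ⊤
  map_add' := map_add _
  map_smul' a s := TMul.app_smul φ (cst k X ⊤ a) s

/-- The rank of the restriction of sections. -/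
theorem h0_sub_le (hS : (IP.support : Set X) ⊆ (V.1 : Set X)) (hL : PicF.IsInvertible L) (he : IsGen e)
    [Module.Finite k (Coh.HH X L 0)] [Module.Finite k (Coh.HH X (CohB1.tensorMod L (ClSub.idealMod IP)) 0)] :
    (Module.finrank k (Coh.HH X L 0) : ℤ) -
        (Module.finrank k (Coh.HH X (CohB1.tensorMod L (ClSub.idealMod IP)) 0) : ℤ) ≤
      (Module.finrank k (LinearMap.range (coeff (k := k) IP he)) : ℤ) := by
  haveI : Module.Finite k Γ(L, ⊤) := Module.Finite.equiv (secH0 (k := k) L).symm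
  haveI : Module.Finite k Γ(CohB1.tensorMod L (ClSub.idealMod IP), ⊤) := Module.Finite.equiv (secH0 (k := k) _).symm
  let ψ := appL (k := k) ((TMul.commIso L (ClSub.idealMod IP)).hom ≫ idealIncl IP L)
  have hle : LinearMap.ker (coeff (k := k) IP he) ≤ LinearMap.range ψ := fun s hs => by
    obtain ⟨w, hw⟩ := exists_of_coeff_eq_zero hS hL he s (LinearMap.mem_ker.1 hs)
    refine ⟨(TMul.commIso L (ClSub.idealMod IP)).inv.app ⊤ w, ?_⟩
    refine Eq.trans (congrArg ((idealIncl IP L).app ⊤) ?_) hw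
    exact ConcreteCategory.congr_hom (congrArg (fun φ => φ.app ⊤) (TMul.commIso L (ClSub.idealMod IP)).inv_hom_id) w
  have h1 := (Submodule.finrank_mono hle).trans (LinearMap.finrank_range_le ψ)
  have h2 := LinearMap.finrank_range_add_finrank_ker (coeff (k := k) IP he)
  rw [(secH0 (k := k) (CohB1.tensorMod L (ClSub.idealMod IP))).finrank_eq] at h1
  rw [(secH0 (k := k) L).finrank_eq] at h2
  omega

/-- Cayley–Bacharach: no section restricts to a socle element. -/
theorem coeff_ne_socle [IsLocallyNoetherian X] [X.IsSeparated] [CompactSpace X]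
    (hS : (IP.support : Set X) ⊆ (V.1 : Set X)) (hL : PicF.IsInvertible L) (he : IsGen e)
    (hCB : ∀ I' : X.IdealSheafData, IP ⋖ I' → ∀ σ : Coh.structureModule X ⟶ L,
      PicF2.zeroScheme L σ ≤ I' → PicF2.zeroScheme L σ ≤ IP)
    {m : Ideal Γ(X, V.1)} (hm : m.IsMaximal) {z : Γ(X, V.1)} (hz : ∀ a ∈ m, a * z ∈ IP.ideal V) (hzI : z ∉ IP.ideal V)
    (s : Γ(L, ⊤)) : coeff (k := k) IP he s ≠ Ideal.Quotient.mk _ z := by
  intro h
  obtain ⟨c, hc⟩ := exists_coeff he s
  rw [coeff_eq he s hc, Ideal.Quotient.eq] at h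
  obtain ⟨K, hK, hKV⟩ := exists_ideal_extend (IP := IP) (V := V) (IP.ideal V ⊔ Ideal.span {z}) le_sup_left
  have hcov : IP ⋖ K := covBy_of_covBy hS hK (hKV ▸ covBy_sup_span _ hm hz hzI)
  have hval : TMul.val (TMul.homOf s) V.1 = c • e := by rw [TMul.val_homOf]; exact hc
  have hzs := ZeroSch.ideal_zeroScheme_eq_span (TMul.homOf s) hL V he hval
  have h2 := hCB K hcov (TMul.homOf s) (le_of_ideal_le hS hK (by
    rw [hzs, hKV, Ideal.span_singleton_le_iff_mem, show c = (c - z) + z by ring]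
    exact add_mem (Ideal.mem_sup_left h) (Ideal.mem_sup_right (Ideal.mem_span_singleton_self z))))
  have h3 : c ∈ IP.ideal V := h2 V (hzs ▸ Ideal.mem_span_singleton_self c)
  exact hzI (by rw [show z = c - (c - z) by ring]; exact sub_mem h3 h)

/-- restriction of sections is multiplicative -/
theorem coeff_mul {L₁ L₂ : X.Modules} (φ : CohB1.tensorMod L₁ L₂ ≅ L) {e₁ : Γ(L₁, V.1)} {e₂ : Γ(L₂, V.1)}
    (h₁ : IsGen e₁) (h₂ : IsGen e₂) (he : IsGen e) (heq : φ.hom.app V.1 (tm e₁ e₂) = e)
    (s₁ : Γ(L₁, ⊤)) (s₂ : Γ(L₂, ⊤)) :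
    coeff (k := k) IP he (φ.hom.app ⊤ (tm s₁ s₂)) = coeff (k := k) IP h₁ s₁ * coeff (k := k) IP h₂ s₂ := by
  obtain ⟨c₁, hc₁⟩ := exists_coeff h₁ s₁
  obtain ⟨c₂, hc₂⟩ := exists_coeff h₂ s₂
  rw [coeff_eq h₁ s₁ hc₁, coeff_eq h₂ s₂ hc₂, ← map_mul]
  refine coeff_eq he _ ?_
  rw [app_res, TMul.res_tm, hc₁, hc₂, TMul.smul_tm, TMul.tm_smul, smul_smul, TMul.app_smul, heq]

/-- the coordinate ring of the subscheme -/
theorem finite_euler [IsProper (X ↘ Spec (CommRingCat.of k))] (hfin : (IP.support : Set X).Finite)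
    (hcl : ∀ z ∈ (IP.support : Set X), IsClosed ({z} : Set X)) (hS : (IP.support : Set X) ⊆ (V.1 : Set X)) (d : ℕ) :
    Module.Finite k (Γ(X, V.1) ⧸ IP.ideal V) ∧
      FGA.eulerCharLE k X (ClSub.quotMod IP) d = (Module.finrank k (Γ(X, V.1) ⧸ IP.ideal V) : ℤ) := by
  haveI := CurveRR.isNoetherian_of_proper k X
  have hQ := (CurveRR.isCoh_idealMod IP).2
  have hT : CurveRR.SuppIn (ClSub.quotMod IP) (IP.support : Set X) :=
    CurveRR.suppIn_of_subset (CurveRR.support_quotMod IP)
  let ρ : Γ(X, V.1) →ₗ[k] Γ(ClSub.quotMod IP, V.1) :=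
    { toFun := (ClSub.toSubscheme IP).app V.1
      map_add' := map_add _
      map_smul' := fun a s => TMul.app_smul (ClSub.toSubscheme IP) (cst k X V.1 a) s }
  have hρ : Function.Surjective ρ := fun t => IP.subschemeι_app_surjective V t
  have hker : (IP.ideal V).restrictScalars k = LinearMap.ker ρ := Submodule.ext fun a => by
    show a ∈ IP.ideal V ↔ _
    rw [← IP.ker_subschemeι_app, RingHom.mem_ker]
    rfl
  have hr : Function.Bijective (resL (k := k) (ClSub.quotMod IP) (le_top : V.1 ≤ ⊤)) := by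
    have hpre : IP.subschemeι ⁻¹ᵁ V.1 = ⊤ := eq_top_iff.2 fun z _ =>
      hS (IP.range_subschemeι.subset ⟨z, rfl⟩)
    haveI : IsIso (homOfLE (show IP.subschemeι ⁻¹ᵁ V.1 ≤ IP.subschemeι ⁻¹ᵁ ⊤ from fun z _ => trivial)) :=
      ⟨⟨homOfLE (by rw [hpre]; exact le_top), rfl, rfl⟩⟩
    exact ConcreteCategory.bijective_of_isIso (IP.subscheme.presheaf.map
      (homOfLE (show IP.subschemeι ⁻¹ᵁ V.1 ≤ IP.subschemeι ⁻¹ᵁ ⊤ from fun z _ => trivial)).op)
  let f : (Γ(X, V.1) ⧸ IP.ideal V) ≃ₗ[k] Coh.HH X (ClSub.quotMod IP) 0 :=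
    ((Submodule.Quotient.restrictScalarsEquiv k (IP.ideal V)).symm.trans
      ((Submodule.quotEquivOfEq _ _ hker).trans (ρ.quotKerEquivOfSurjective hρ))).trans
      ((LinearEquiv.ofBijective _ hr).symm.trans (secH0 (k := k) _))
  haveI : Module.Finite k (Coh.HH X (ClSub.quotMod IP) 0) := CohFinite.finite_proper k X _ hQ 0
  refine ⟨Module.Finite.equiv f.symm, ?_⟩
  have hclS : ∀ T ⊆ (IP.support : Set X), IsClosed T := fun T hT' => by
    rw [← Set.biUnion_of_singleton T]
    exact (hfin.subset hT').isClosed_biUnion fun z hz => hcl z (hT' hz)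
  have hdim : topologicalKrullDim (IP.support : Set X) ≤ 0 := by
    haveI : Finite (IP.support : Set X) := hfin.to_subtype
    haveI : T1Space (IP.support : Set X) := t1Space_iff_exists_open.2 fun a b hab =>
      ⟨Subtype.val ⁻¹' ({b.1}ᶜ : Set X), (hcl b.1 b.2).isOpen_compl.preimage continuous_subtype_val,
        fun h => hab (Subtype.ext h), fun h => h rfl⟩
    exact topologicalKrullDim_zero_of_discreteTopology _
  have hvan : ∀ i, 1 ≤ i → Subsingleton (Coh.HH X (ClSub.quotMod IP) i) := fun i hi =>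
    SuppZero.subsingleton_hh_of_supported IP.support.isClosed hdim _
      (fun x hx h => hx (CurveRR.support_quotMod IP h)) i hi
  rw [FGA.eulerCharLE, Finset.sum_range_succ', Finset.sum_eq_zero fun i _ => ?_, zero_add, pow_zero, one_mul,
    f.finrank_eq]
  haveI := hvan (i + 1) (by omega)
  rw [Module.finrank_zero_of_subsingleton, Nat.cast_zero, mul_zero]

end Groth.Agent.CBSurf
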