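import Groth.Agent.SerreCorr.Local
import Groth.Agent.SerreReg.MiracleFinite
import Groth.Agent.CMFlat.Quotient

/-!
# The socle of a two-dimensional regular local ring modulo two elements
-/

set_option autoImplicit false
set_option linter.style.haveILetI false

universe u

open IsLocalRing RingTheory.Sequence

namespace Groth.Agent.CBSurf

variable {R : Type u} [CommRing R]

/-- The determinant expressing a regular pair in another regular pair spans the colon modulo the pair. -/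
theorem colon_pair {x y a b a₁ a₂ b₁ b₂ : R} (ha : a = a₁ * x + a₂ * y) (hb : b = b₁ * x + b₂ * y)
    (hab : IsWeaklyRegular R [a, b]) (hxy : IsWeaklyRegular R [x, y]) {z : R}
    (hzx : z * x ∈ Ideal.span {a, b}) (hzy : z * y ∈ Ideal.span {a, b}) :
    ∃ t, z - t * (a₁ * b₂ - a₂ * b₁) ∈ Ideal.span {a, b} := by
  obtain ⟨p, q, hpq⟩ := Ideal.mem_span_pair.1 hzx
  obtain ⟨r, s, hrs⟩ := Ideal.mem_span_pair.1 hzy
  obtain ⟨hx0, hxy'⟩ := SerreCorr.regular_pair hxy
  obtain ⟨ha0, hab'⟩ := SerreCorr.regular_pair hab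
  obtain ⟨t', ht'⟩ := hab' (q * y - s * x) ⟨r * x - p * y, by linear_combination y * hpq - x * hrs⟩
  have h1 : p * y - r * x + b * t' = 0 := by
    refine ha0 _ ?_
    linear_combination y * hpq - x * hrs - b * ht'
  obtain ⟨w, hw⟩ := hxy' (p + b₂ * t') ⟨r - b₁ * t', by linear_combination h1 - t' * hb⟩
  obtain ⟨v, hv⟩ := hxy' (q - a₂ * t') ⟨s + a₁ * t', by linear_combination ht' + t' * ha⟩
  refine ⟨-t', Ideal.mem_span_pair.2 ⟨w, v, ?_⟩⟩
  refine sub_eq_zero.1 (hx0 _ ?_)
  linear_combination hpq - a * hw - b * hv - a₂ * t' * hb + b₂ * t' * ha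

variable [IsRegularLocalRing R]

/-- two elements cutting out the closed point of a regular local ring of dimension two -/
theorem isWeaklyRegular_pair (hdim : ringKrullDim R = (2 : ℕ)) {a b : R} (ha : a ∈ maximalIdeal R)
    (hb : b ∈ maximalIdeal R)
    (hprime : ∀ p : Ideal R, p.IsPrime → Ideal.span {a, b} ≤ p → p = maximalIdeal R) :
    IsWeaklyRegular R [a, b] := by
  haveI := CMFlat.isCohenMacaulayLocalRing_of_isRegularLocalRing R
  refine (CMFlat.isWeaklyRegular_of_height [a, b] (by simpa using ⟨ha, hb⟩) fun p hp hle => ?_).1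
  rw [hprime p hp (le_trans (le_of_eq ?_) hle)]
  · have h2 := IsLocalRing.maximalIdeal_height_eq_ringKrullDim (R := R)
    rw [hdim] at h2
    exact le_of_eq (WithBot.coe_inj.1 h2).symm
  · refine congrArg Ideal.span (Set.ext fun w => ?_)
    simp

/-- The socle of `R/(a,b)` is spanned by one element. -/
theorem socle_line (hdim : ringKrullDim R = (2 : ℕ)) {a b : R} (ha : a ∈ maximalIdeal R) (hb : b ∈ maximalIdeal R)
    (hprime : ∀ p : Ideal R, p.IsPrime → Ideal.span {a, b} ≤ p → p = maximalIdeal R) :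
    ∃ Δ : R, (∀ w ∈ maximalIdeal R, w * Δ ∈ Ideal.span {a, b}) ∧
      ∀ z, (∀ m ∈ maximalIdeal R, z * m ∈ Ideal.span {a, b}) → ∃ t, z - t * Δ ∈ Ideal.span {a, b} := by
  obtain ⟨rs, hlen, hreg, hspan⟩ := SerreReg.exists_regular_rsop 2 R hdim
  obtain ⟨x, y, rfl⟩ : ∃ x y, rs = [x, y] := by
    match rs, hlen with
    | [x, y], _ => exact ⟨x, y, rfl⟩
  have hmem : ∀ w, w ∈ maximalIdeal R → ∃ c d, c * x + d * y = w := fun w hw => by
    rw [← hspan] at hw
    refine Ideal.mem_span_pair.1 ?_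
    refine le_of_eq (congrArg Ideal.span (Set.ext fun v => ?_)) hw
    simp
  obtain ⟨a₁, a₂, ha'⟩ := hmem a ha
  obtain ⟨b₁, b₂, hb'⟩ := hmem b hb
  refine ⟨a₁ * b₂ - a₂ * b₁, fun w hw => ?_, fun z hz => colon_pair ha'.symm hb'.symm (isWeaklyRegular_pair hdim ha hb hprime)
    hreg (hz x ?_) (hz y ?_)⟩
  · obtain ⟨c, d, rfl⟩ := hmem w hw
    refine Ideal.mem_span_pair.2 ⟨c * b₂ - d * b₁, d * a₁ - c * a₂, ?_⟩
    linear_combination -(c * b₂ - d * b₁) * ha' - (d * a₁ - c * a₂) * hb'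
  · rw [← hspan]; exact Ideal.subset_span (by simp)
  · rw [← hspan]; exact Ideal.subset_span (by simp)

end Groth.Agent.CBSurf
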